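import Groth.Agent.CycLib28.K0.CycleClass
import Groth.Agent.CycLib28.SecOrd
import Groth.Agent.VarietyLib.TensorExact
import Groth.Agent.DCat.PullTensor
import Groth.Agent.Coherent.TensorQcoh
import Groth.Agent.PicLib.FormalGen
import Mathlib

/-!
# Tensoring by an invertible module
-/

set_option autoImplicit false
set_option linter.style.haveILetI false
set_option backward.isDefEq.respectTransparency.types false
universe u

open CategoryTheory CategoryTheory.Limits AlgebraicGeometry TopologicalSpace MonoidalCategory
open Groth.Agent.ModStalk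
open scoped TensorProduct

namespace Groth.Agent.CycLib28.K0

variable {X : Scheme.{u}}

local notation "St" => DerSch.stalkFunctor X

/-- `M ↦ M ⊗ L` -/
noncomputable abbrev twist (L : X.Modules) : X.Modules ⥤ X.Modules := (DCoh.tensorBi (X := X)).flip.obj L

/-- tensors of stalks -/
noncomputable def tm {x : X} {M L : X.Modules} (m : M.presheaf.stalk x) (t : L.presheaf.stalk x) :
    (CohB1.tensorMod M L).presheaf.stalk x :=
  (stalkTensorIso x M L).inv (show ((St x).obj M ⊗ (St x).obj L : ModuleCat.{u} (X.presheaf.stalk x)) from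
    (show (St x).obj M from m) ⊗ₜ[X.presheaf.stalk x] (show (St x).obj L from t))

theorem tm_specializes {x z : X} (h : z ⤳ x) {M L : X.Modules} (m : M.presheaf.stalk x) (t : L.presheaf.stalk x) :
    (CohB1.tensorMod M L).presheaf.stalkSpecializes h (tm m t) =
      tm (M.presheaf.stalkSpecializes h m) (L.presheaf.stalkSpecializes h t) := by
  obtain ⟨U, hU, a, rfl⟩ := M.presheaf.exists_germ_eq m
  obtain ⟨V, hV, b, rfl⟩ := L.presheaf.exists_germ_eq t
  have hW : x ∈ U ⊓ V := ⟨hU, hV⟩
  rw [← TopCat.Presheaf.germ_res_apply M.presheaf (homOfLE (inf_le_left : U ⊓ V ≤ U)) x hW a,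
    ← TopCat.Presheaf.germ_res_apply L.presheaf (homOfLE (inf_le_right : U ⊓ V ≤ V)) x hW b]
  set a' := M.presheaf.map (homOfLE (inf_le_left : U ⊓ V ≤ U)).op a
  set b' := L.presheaf.map (homOfLE (inf_le_right : U ⊓ V ≤ V)).op b
  have key : ∀ (y : X) (hy : y ∈ U ⊓ V), tm (M.presheaf.germ (U ⊓ V) y hy a') (L.presheaf.germ (U ⊓ V) y hy b') =
      (CohB1.tensorMod M L).presheaf.germ (U ⊓ V) y hy (AmpleLib.tmul a' b') := fun y hy => by
    refine (stalkTensorIso y M L).toLinearEquiv.injective (Eq.trans ?_ (DCat.PullTensor.stalkTensor_germ y M L _ hy a' b').symm)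
    exact (stalkTensorIso y M L).toLinearEquiv.apply_symm_apply _
  rw [key x hW, TopCat.Presheaf.germ_stalkSpecializes_apply, TopCat.Presheaf.germ_stalkSpecializes_apply,
    TopCat.Presheaf.germ_stalkSpecializes_apply, key]

theorem tm_smul_right {x : X} {M L : X.Modules} (m : M.presheaf.stalk x) (r : X.presheaf.stalk x)
    (t : L.presheaf.stalk x) : tm m (r • t) = r • tm m t :=
  (congrArg (stalkTensorIso x M L).inv (TensorProduct.tmul_smul r (show (St x).obj M from m)
    (show (St x).obj L from t))).trans (map_smul (stalkTensorIso x M L).inv.hom r _)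

/-- the inverse of the coefficient on a generator -/
noncomputable def genEquiv {L : X.Modules} (x : X) (g : L.presheaf.stalk x)
    (hg : Function.Bijective fun r : X.presheaf.stalk x => r • g) :
    X.presheaf.stalk x ≃ₗ[X.presheaf.stalk x] (St x).obj L :=
  LinearEquiv.ofBijective (LinearMap.toSpanSingleton _ _ (show (St x).obj L from g)) hg

/-- removing a generator from a tensor -/
noncomputable def rho {L : X.Modules} (x : X) (g : L.presheaf.stalk x)
    (hg : Function.Bijective fun r : X.presheaf.stalk x => r • g) (M : X.Modules) :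
    (St x).obj (CohB1.tensorMod M L) ≃ₗ[X.presheaf.stalk x] (St x).obj M :=
  ((stalkTensorIso x M L).toLinearEquiv.trans
    (TensorProduct.congr (LinearEquiv.refl _ ((St x).obj M)) (genEquiv x g hg).symm)).trans (TensorProduct.rid _ _)

theorem rho_apply {L : X.Modules} (x : X) (g : L.presheaf.stalk x)
    (hg : Function.Bijective fun r : X.presheaf.stalk x => r • g) (M : X.Modules)
    (v : (St x).obj (CohB1.tensorMod M L)) :
    rho x g hg M v = TensorProduct.rid _ _
      (TensorProduct.congr (LinearEquiv.refl _ ((St x).obj M)) (genEquiv x g hg).symm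
        ((stalkTensorIso x M L).hom v)) := rfl

theorem rid_congr_tmul {R M N : Type u} [CommRing R] [AddCommGroup M] [Module R M] [AddCommGroup N] [Module R N]
    (e : R ≃ₗ[R] N) (m : M) (l : N) :
    TensorProduct.rid R M (TensorProduct.congr (LinearEquiv.refl R M) e.symm (m ⊗ₜ[R] l)) = e.symm l • m := by
  simp

theorem rid_congr_rTensor {R M M' N : Type u} [CommRing R] [AddCommGroup M] [Module R M] [AddCommGroup M']
    [Module R M'] [AddCommGroup N] [Module R N] (e : R ≃ₗ[R] N) (f : M →ₗ[R] M') (w : M ⊗[R] N) :
    TensorProduct.rid R M' (TensorProduct.congr (LinearEquiv.refl R M') e.symm (LinearMap.rTensor N f w)) =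
      f (TensorProduct.rid R M (TensorProduct.congr (LinearEquiv.refl R M) e.symm w)) := by
  induction w using TensorProduct.induction_on with
  | zero => simp
  | tmul m l => simp
  | add a b ha hb => simp only [map_add, ha, hb]

theorem rho_tm {L : X.Modules} (x : X) (g : L.presheaf.stalk x)
    (hg : Function.Bijective fun r : X.presheaf.stalk x => r • g) (M : X.Modules) (m : M.presheaf.stalk x) :
    rho x g hg M (tm m g) = m := by
  have h1 : (stalkTensorIso x M L).hom (tm m g) =
      (show (St x).obj M from m) ⊗ₜ[X.presheaf.stalk x] (show (St x).obj L from g) :=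
    (stalkTensorIso x M L).toLinearEquiv.apply_symm_apply _
  have h2 : (genEquiv x g hg).symm g = 1 := (genEquiv x g hg).injective (by
    rw [LinearEquiv.apply_symm_apply]; exact (one_smul (X.presheaf.stalk x) g).symm)
  refine (rho_apply x g hg M (tm m g)).trans ((congrArg (fun w => TensorProduct.rid _ _
    (TensorProduct.congr (LinearEquiv.refl _ ((St x).obj M)) (genEquiv x g hg).symm w)) h1).trans
      ((rid_congr_tmul (genEquiv x g hg) (show (St x).obj M from m) (show (St x).obj L from g)).trans ?_))
  exact (congrArg (· • (show (St x).obj M from m)) h2).trans (one_smul _ _)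

/-- twisting does nothing on stalks -/
theorem nonempty_twist_stalkIso {L : X.Modules} (hL : PicF.IsInvertible L) (x : X) :
    Nonempty (twist L ⋙ St x ≅ St x) := by
  obtain ⟨g, hg, -⟩ := exists_gen_stalk hL x
  refine ⟨NatIso.ofComponents (fun M => (rho x g hg M).toModuleIso) fun {M N} φ => ?_⟩
  refine ModuleCat.hom_ext (LinearMap.ext fun v => ?_)
  show rho x g hg N ((St x).map ((DCoh.tensorBi.map φ).app L) v) = (St x).map φ (rho x g hg M v)
  rw [KoszTw.tensorBi_map_app]
  exact (rho_apply x g hg N _).trans ((congrArg (fun w => TensorProduct.rid _ _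
    (TensorProduct.congr (LinearEquiv.refl _ ((St x).obj N)) (genEquiv x g hg).symm w))
      (VarietyLib.stalk_tensorMap_id φ L x v)).trans
        (rid_congr_rTensor (genEquiv x g hg) ((St x).map φ).hom ((stalkTensorIso x M L).hom v)))

theorem support_twist {L : X.Modules} (hL : PicF.IsInvertible L) (M : X.Modules) :
    CohB1.support ((twist L).obj M) = CohB1.support M := by
  ext x
  obtain ⟨e⟩ := nonempty_twist_stalkIso hL x
  exact ((e.app M).toLinearEquiv.toEquiv.subsingleton_congr).not

theorem len_twist {L : X.Modules} (hL : PicF.IsInvertible L) (M : X.Modules) (x : X) :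
    len x ((twist L).obj M) = len x M := by
  obtain ⟨e⟩ := nonempty_twist_stalkIso hL x
  exact (e.app M).toLinearEquiv.length_eq

theorem twist_shortExact {L : X.Modules} (hL : PicF.IsInvertible L) {S : ShortComplex X.Modules}
    (hS : S.ShortExact) (w : (twist L).map S.f ≫ (twist L).map S.g = 0) :
    (ShortComplex.mk ((twist L).map S.f) ((twist L).map S.g) w).ShortExact := by
  have key : ∀ x, ((ShortComplex.mk ((twist L).map S.f) ((twist L).map S.g) w).map (St x)).ShortExact := fun x => by
    obtain ⟨e⟩ := nonempty_twist_stalkIso hL x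
    refine ShortComplex.shortExact_of_iso ?_ (hS.map_of_exact (St x))
    exact ShortComplex.isoMk (e.app _).symm (e.app _).symm (e.app _).symm (e.inv.naturality S.f).symm
      (e.inv.naturality S.g).symm
  haveI : Mono ((twist L).map S.f) :=
    OmegaLib.mono_of_stalks_injective _ fun x => (ModuleCat.mono_iff_injective _).1 (key x).mono_f
  haveI : Epi ((twist L).map S.g) :=
    OmegaLib.epi_of_stalks_surjective _ fun x => (ModuleCat.epi_iff_surjective _).1 (key x).epi_g
  exact { exact := OmegaLib.exact_of_stalks _ fun x => (key x).exact }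

theorem isIso_twist_sigmaComparison {L : X.Modules} (hL : PicF.IsInvertible L) {J : Type u} (f : J → X.Modules) :
    IsIso (sigmaComparison (twist L) f) := by
  refine isIso_of_stalks _ fun x => ?_
  obtain ⟨e⟩ := nonempty_twist_stalkIso hL x
  haveI : PreservesColimitsOfShape (Discrete J) (twist L ⋙ St x) := preservesColimitsOfShape_of_natIso e.symm
  have hc : sigmaComparison (twist L ⋙ St x) f =
      sigmaComparison (St x) (fun j => (twist L).obj (f j)) ≫ (St x).map (sigmaComparison (twist L) f) := by
    refine Limits.Sigma.hom_ext _ _ fun j => ?_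
    rw [ι_comp_sigmaComparison]
    refine Eq.trans ?_ (Category.assoc _ _ _)
    show _ = (Sigma.ι (fun b => (St x).obj ((twist L).obj (f b))) j ≫
      sigmaComparison (St x) fun j => (twist L).obj (f j)) ≫ _
    rw [ι_comp_sigmaComparison, ← Functor.map_comp, ι_comp_sigmaComparison]
    rfl
  haveI h2 : IsIso (sigmaComparison (twist L ⋙ St x) f) := inferInstance
  rw [hc] at h2
  exact IsIso.of_isIso_comp_left (sigmaComparison (St x) fun j => (twist L).obj (f j))
    ((St x).map (sigmaComparison (twist L) f))

variable [IsLocallyNoetherian X]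

theorem isCoh_twist {L : X.Modules} (hL : PicF.IsInvertible L) {M : X.Modules} (hM : Coh.IsCoh M) :
    Coh.IsCoh ((twist L).obj M) := by
  haveI := hM.1
  haveI : Coh.IsQCoh L := (PicLib.isCoh_of_isInvertible hL).1
  exact ⟨Coherent.isQCoh_tensorMod M L, Coherent.isFT_tensorMod M L hM.2 (PicLib.isCoh_of_isInvertible hL).2⟩

theorem cohAt_twist {L : X.Modules} (hL : PicF.IsInvertible L) {ξ : X} {M : X.Modules} (hM : CohAt ξ M) :
    CohAt ξ ((twist L).obj M) :=
  ⟨isCoh_twist hL hM.1, (support_twist hL M).trans_subset hM.2⟩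

theorem cohLe_twist {L : X.Modules} (hL : PicF.IsInvertible L) {δ : X → ℤ} {a : ℤ} {M : X.Modules}
    (hM : Cyc.CohLe δ a M) : Cyc.CohLe δ a ((twist L).obj M) :=
  cohLe_of_support (isCoh_twist hL hM.1) (support_twist hL M).subset fun _ => CohLe.support_le hM

end Groth.Agent.CycLib28.K0
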