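import Groth.Agent.CycLib28.K0.Lattice
import Groth.Agent.CycLib28.SecOrd
import Groth.Agent.AssSch12.PullbackPoint
import Mathlib

/-!
# The structure sheaf of the closure of a point has cyclic stalks
-/

set_option autoImplicit false
set_option linter.style.haveILetI false
set_option backward.isDefEq.respectTransparency.types false
universe u

open CategoryTheory CategoryTheory.Limits AlgebraicGeometry TopologicalSpace Opposite

namespace Groth.Agent.CycLib28.K0

variable {X : Scheme.{u}}

/-- the section one -/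
noncomputable def ptOne (ξ : X) : Γ(InterSheaf.pointSheaf ξ, ⊤) :=
  (1 : Γ((IntMult.ptIdeal ξ).subscheme, (IntMult.ptIdeal ξ).subschemeι ⁻¹ᵁ ⊤))

/-- the germ of one -/
noncomputable def ptGerm (ξ x : X) : (InterSheaf.pointSheaf ξ).presheaf.stalk x :=
  (InterSheaf.pointSheaf ξ).presheaf.germ ⊤ x trivial (ptOne ξ)

theorem ptGerm_specializes (ξ : X) {x z : X} (h : z ⤳ x) :
    (InterSheaf.pointSheaf ξ).presheaf.stalkSpecializes h (ptGerm ξ x) = ptGerm ξ z :=
  TopCat.Presheaf.germ_stalkSpecializes_apply _ _ h _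

theorem isGenAt_ptGerm {ξ x : X} (h : ξ ⤳ x) : IsGenAt h (InterSheaf.pointSheaf ξ) (ptGerm ξ x) := by
  haveI := isIntegral_ptIdeal ξ
  set ι := (IntMult.ptIdeal ξ).subschemeι with hι
  obtain ⟨z, hz⟩ : x ∈ Set.range ι := (IntMult.ptIdeal ξ).range_subschemeι.ge (mem_support_ptIdeal.2 h)
  subst hz
  let T := pushStalkHom ι (Coh.structureModule (IntMult.ptIdeal ξ).subscheme) z
  haveI : IsIso T :=
    TopCat.Presheaf.stalkPushforward.stalkPushforward_iso_of_isInducing Ab.{u} ι.isClosedEmbedding.isInducing _ z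
  have hinj : Function.Injective T := (ConcreteCategory.bijective_of_isIso T).1
  have key : ∀ r : X.presheaf.stalk (ι z), T (r • ptGerm ξ (ι z)) =
      (ι.stalkMap z).hom r • AssSch12.unitOne z := fun r => by
    refine (pushStalkHom_smul ι _ z r _).trans ?_
    exact congrArg _ (pushStalkHom_germ ι _ z ⊤ trivial (ptOne ξ))
  refine ⟨fun m => ?_, fun r hr => hinj ?_⟩
  · obtain ⟨c, hc⟩ := (AssSch12.bijective_smul_unitOne z).2 (T m)
    obtain ⟨r, rfl⟩ := ι.stalkMap_surjective z c
    exact ⟨r, hinj ((key r).trans hc)⟩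
  · rw [key, map_zero]
    suffices h0 : (ι.stalkMap z).hom r = 0 by rw [h0, zero_smul]
    set η := genericPoint (IntMult.ptIdeal ξ).subscheme with hη
    have hs : η ⤳ z := genericPoint_specializes z
    have hιη : ι η = ξ := by
      obtain ⟨w, hw⟩ : ξ ∈ Set.range ι :=
        (IntMult.ptIdeal ξ).range_subschemeι.ge (mem_support_ptIdeal.2 specializes_rfl)
      refine (congrArg ι (?_ : η = w)).trans hw
      refine ((genericPoint_specializes w).antisymm ?_).eq
      rw [← ι.isEmbedding.isInducing.specializes_iff, hw]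
      exact mem_support_ptIdeal.1 ((IntMult.ptIdeal ξ).range_subschemeι.le ⟨_, rfl⟩)
    have hinjs : Function.Injective ((IntMult.ptIdeal ξ).subscheme.presheaf.stalkSpecializes hs) :=
      IsFractionRing.injective ((IntMult.ptIdeal ξ).subscheme.presheaf.stalk z)
        (IntMult.ptIdeal ξ).subscheme.functionField
    refine hinjs ?_
    rw [map_zero]
    refine (Scheme.Hom.stalkSpecializes_stalkMap_apply ι η z hs r).symm.trans ?_
    by_contra hne
    have hu : IsUnit ((ι.stalkMap η).hom (X.presheaf.stalkSpecializes (hs.map ι.continuous) r)) :=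
      Ne.isUnit (G₀ := (IntMult.ptIdeal ξ).subscheme.functionField) hne
    have hu' := isUnit_of_map_unit _ _ hu
    have : ∀ (p : X) (h1 : p ⤳ ι z), p = ξ → IsUnit (X.presheaf.stalkSpecializes h1 r) →
        Cyc.specMap (ι z) ξ h r ≠ 0 := by
      rintro p h1 rfl h2
      exact (IsLocalRing.residue_ne_zero_iff_isUnit _).2 h2
    exact this _ _ hιη hu' hr

/-- a bijection of a cyclic stalk with the residue field -/
theorem exists_toKap {ξ : X} (P : X.Modules) (p : P.presheaf.stalk ξ) (hp : IsGenAt specializes_rfl P p)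
    (hnt : Nontrivial (P.presheaf.stalk ξ)) (c : X.residueField ξ) (hc : c ≠ 0) :
    ∃ g : (DerSch.stalkFunctor X ξ).obj P ⟶ kap ξ, Function.Bijective g ∧
      (show X.residueField ξ from g p) = c := by
  let M := (DerSch.stalkFunctor X ξ).obj P
  have hres : ∀ r : X.presheaf.stalk ξ, Cyc.specMap ξ ξ specializes_rfl r = (X.residue ξ).hom r := fun r => by
    simp [Cyc.specMap, TopCat.Presheaf.stalkSpecializes_refl]
  let φ : X.presheaf.stalk ξ →ₗ[X.presheaf.stalk ξ] M := LinearMap.toSpanSingleton _ M p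
  have hle : IsLocalRing.maximalIdeal (X.presheaf.stalk ξ) ≤ LinearMap.ker φ := fun r hr =>
    hp.2 r ((hres r).trans (Ideal.Quotient.eq_zero_iff_mem.2 hr))
  let ψ : kap ξ →ₗ[X.presheaf.stalk ξ] M := Submodule.liftQ _ φ hle
  have hψ : Function.Bijective ψ := by
    refine ⟨(injective_iff_map_eq_zero ψ).2 fun v hv => ?_, fun m => ?_⟩
    · obtain ⟨r, rfl⟩ := Ideal.Quotient.mk_surjective v
      refine Ideal.Quotient.eq_zero_iff_mem.2 (by_contra fun hr => ?_)
      have hu : IsUnit r := by simpa using hr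
      have : p = 0 := (IsUnit.smul_eq_zero hu).1 hv
      refine not_subsingleton_iff_nontrivial.2 hnt (subsingleton_of_forall_eq 0 fun m => ?_)
      obtain ⟨r, rfl⟩ := hp.1 m
      rw [this, smul_zero]
    · obtain ⟨r, rfl⟩ := hp.1 m
      exact ⟨Ideal.Quotient.mk _ r, rfl⟩
  obtain ⟨a, ha⟩ := X.residue_surjective ξ c
  have hua : IsUnit a := (IsLocalRing.residue_ne_zero_iff_isUnit a).1 (by rw [← ha] at hc; exact hc)
  let e := LinearEquiv.ofBijective ψ hψ
  refine ⟨ModuleCat.ofHom (a • e.symm.toLinearMap),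
    ⟨fun v w h => e.symm.injective (hua.smul_left_cancel.1 (show a • e.symm v = a • e.symm w from h)), fun v => ?_⟩, ?_⟩
  · refine ⟨e (hua.unit⁻¹ • v), ?_⟩
    show a • e.symm (e (hua.unit⁻¹ • v)) = v
    rw [e.symm_apply_apply, Units.smul_def, smul_smul, IsUnit.mul_val_inv, one_smul]
  · show (show X.residueField ξ from a • e.symm p) = c
    have : e.symm p = (Ideal.Quotient.mk _ 1 : kap ξ) := e.injective (by
      rw [e.apply_symm_apply]; exact (one_smul (X.presheaf.stalk ξ) p).symm)
    rw [this, kap_smul]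
    show _ * (1 : X.residueField ξ) = c
    rw [mul_one]; exact ha

theorem nontrivial_ptGerm [IsLocallyNoetherian X] {δ : X → ℤ} (hδ : Cyc.IsDimFun X δ) (ξ : X) :
    Nontrivial ((InterSheaf.pointSheaf ξ).presheaf.stalk ξ) :=
  not_subsingleton_iff_nontrivial.1 fun h => by
    have h1 := len_pointSheaf hδ ξ
    rw [len, Module.length_eq_zero_iff.2 (show Subsingleton ((DerSch.stalkFunctor X ξ).obj (InterSheaf.pointSheaf ξ)) from h)] at h1
    exact zero_ne_one h1

end Groth.Agent.CycLib28.K0
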