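import Groth.Agent.CycLib28.K0.Twist
import Groth.Agent.CycLib28.K0.PointGen
import Groth.Agent.CycLib28.C1Indep
import Groth.Prelude.Def_C1
import Mathlib

/-!
# `[F ⊗ L] - [F]` is the class of `c₁(L) ∩ [F]`
-/

set_option autoImplicit false
set_option linter.style.haveILetI false
set_option backward.isDefEq.respectTransparency.types false
universe u

open CategoryTheory CategoryTheory.Limits AlgebraicGeometry

namespace Groth.Agent.CycLib28.K0

variable {X : Scheme.{u}} [IsLocallyNoetherian X] {δ : X → ℤ}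

local notation "cls" => Cyc.toK0CohQuot δ

theorem cls_twist_lower (hδ : Cyc.IsDimFun X δ) {L : X.Modules} (hL : PicF.IsInvertible L) {k : ℤ} {E : X.Modules}
    (hE : Cyc.CohLe δ k E) : cls (k + 1) (k - 1) ((twist L).obj E) = cls (k + 1) (k - 1) E := by
  have h : cls k (k - 1) ((twist L).obj E) = cls k (k - 1) E := by
    refine cycleHom_injective hδ ?_
    rw [cycleHom_cls hδ k (cohLe_twist hL hE), cycleHom_cls hδ k hE]
    funext x
    simp only [Cyc.sheafFun]
    split_ifs with hx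
    · exact congrArg (fun n : ℕ∞ => (n.toNat : ℤ)) (len_twist hL E x)
    · rfl
  have h' := congrArg (raiseHom δ (show k ≤ k + 1 by omega) (k - 1)) h
  rwa [raiseHom_cls _ (cohLe_twist hL hE), raiseHom_cls _ hE] at h'

/-- The class `[M ⊗ L] - [M]` only depends on the top dimensional cycle of `M`. -/
theorem cls_twist_sub_eq (hδ : Cyc.IsDimFun X δ) {L : X.Modules} (hL : PicF.IsInvertible L) (k : ℤ)
    {F C : X.Modules} (hF : Cyc.CohLe δ (k + 1) F) (hC : Cyc.CohLe δ (k + 1) C)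
    (h : cls (k + 1) k F = cls (k + 1) k C) :
    cls (k + 1) (k - 1) ((twist L).obj F) - cls (k + 1) (k - 1) F =
      cls (k + 1) (k - 1) ((twist L).obj C) - cls (k + 1) (k - 1) C := by
  let D₀ : KZero.K0sub (Cyc.CohLe δ (k + 1)) →+ Cyc.K0CohQuot δ (k + 1) (k - 1) :=
    QuotientAddGroup.lift (KZero.relSub (Cyc.CohLe δ (k + 1)))
      (FreeAbelianGroup.lift fun M => cls (k + 1) (k - 1) ((twist L).obj M.1) - cls (k + 1) (k - 1) M.1) (by
        refine (AddSubgroup.closure_le _).2 ?_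
        rintro x ⟨S, h₁, h₂, h₃, hS, rfl⟩
        have w : (twist L).map S.f ≫ (twist L).map S.g = 0 := by
          rw [← Functor.map_comp, S.zero, Functor.map_zero]
        rw [SetLike.mem_coe, AddMonoidHom.mem_ker, map_sub, map_sub, FreeAbelianGroup.lift_apply_of,
          FreeAbelianGroup.lift_apply_of, FreeAbelianGroup.lift_apply_of,
          cls_ses hS h₁ h₂ h₃,
          show cls (k + 1) (k - 1) ((twist L).obj S.X₂) = _ from cls_ses (twist_shortExact hL hS w)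
            (cohLe_twist hL h₁) (cohLe_twist hL h₂) (cohLe_twist hL h₃)]
        abel)
  let D : Cyc.K0CohQuot δ (k + 1) k →+ Cyc.K0CohQuot δ (k + 1) (k - 1) :=
    QuotientAddGroup.lift _ D₀ (by
      rw [AddSubgroup.closure_le]
      rintro x ⟨E, hE, rfl⟩
      rw [SetLike.mem_coe, AddMonoidHom.mem_ker, KZero.clSub, dif_pos (CohLe.weaken hE (by omega))]
      refine (FreeAbelianGroup.lift_apply_of
        (fun M : Subtype (Cyc.CohLe δ (k + 1)) => cls (k + 1) (k - 1) ((twist L).obj M.1) - cls (k + 1) (k - 1) M.1)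
        ⟨E, CohLe.weaken hE (by omega)⟩).trans ?_
      exact sub_eq_zero.2 (cls_twist_lower hδ hL hE))
  have key : ∀ {M : X.Modules}, Cyc.CohLe δ (k + 1) M →
      D (cls (k + 1) k M) = cls (k + 1) (k - 1) ((twist L).obj M) - cls (k + 1) (k - 1) M := fun {M} hM => by
    rw [cls_eq M hM]
    exact FreeAbelianGroup.lift_apply_of
      (fun M : Subtype (Cyc.CohLe δ (k + 1)) => cls (k + 1) (k - 1) ((twist L).obj M.1) - cls (k + 1) (k - 1) M.1) ⟨M, hM⟩
  rw [← key hF, h, key hC]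

theorem cls_twist_sub (hδ : Cyc.IsDimFun X δ) {L : X.Modules} (hL : PicF.IsInvertible L) (k : ℤ)
    {F : X.Modules} (hF : Cyc.CohLe δ (k + 1) F) (s : (ξ : X) → Cyc.secFibre L ξ) (hs : ∀ ξ, s ξ ≠ 0)
    (γ : AlgebraicCycle X ℤ) (hγk : γ ∈ Cyc.Zk X δ k)
    (hγ : ⇑γ = Cyc.c1CapFun δ L (Cyc.sheafFun δ (k + 1) F) s) :
    cls (k + 1) (k - 1) (CohB1.tensorMod F L) - cls (k + 1) (k - 1) F =
      cls (k + 1) (k - 1) (Cyc.cycleSheafPos ⇑γ) - cls (k + 1) (k - 1) (Cyc.cycleSheafNeg ⇑γ) := by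
  classical
  set a := Cyc.sheafFun δ (k + 1) F with ha
  obtain ⟨c, hc⟩ := exists_sheafFun_cycle hδ F hF.1 (k + 1) hF.2
  have hac : ∀ x, 0 < a x → c x ≠ 0 := fun x hx => by rw [hc, ← ha]; omega
  have hck : c ∈ Cyc.Zk X δ (k + 1) := fun x hx => by rw [hc]; simp [Cyc.sheafFun, hx]
  obtain ⟨hC, -⟩ := sheafFun_cycleSheafPos hδ c hck a hac
  have hdT : ∀ t : Pts a, δ t.1 = k + 1 := fun t => by
    by_contra h
    have := t.2
    simp only [ha, Cyc.sheafFun, if_neg h] at this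
    exact lt_irrefl _ this
  have e₀ : cls (k + 1) k F = cls (k + 1) k (Cyc.cycleSheafPos a) := by
    have := cls_eq_cycleSheafPos hδ hF
    rwa [add_sub_cancel_right] at this
  refine (cls_twist_sub_eq hδ hL k hF hC e₀).trans ?_
  -- the family
  let ξ : (Σ ζ : Pts a, Fin (mlt a ζ)) → X := fun i => i.1.1
  let P : (Σ ζ : Pts a, Fin (mlt a ζ)) → X.Modules := fun i => InterSheaf.pointSheaf (ξ i)
  have hfib : ∀ t : Pts a, ((Sigma.fst : (Σ ζ : Pts a, Fin (mlt a ζ)) → Pts a) ⁻¹' {t}).Finite := fun t =>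
    (Set.finite_range fun j : Fin (mlt a t) => (⟨t, j⟩ : Σ ζ : Pts a, Fin (mlt a ζ))).subset (by
      rintro ⟨t', j⟩ rfl; exact ⟨j, rfl⟩)
  have hlT := locallyFinite_closure_of_cycle c a hac
  have hlI : LocallyFinite fun i => closure ({ξ i} : Set X) := fun x => by
    obtain ⟨N, hN, hfin⟩ := hlT x
    exact ⟨N, hN, (hfin.biUnion fun t _ => hfib t).subset fun i hi => Set.mem_iUnion₂.2 ⟨i.1, hi, rfl⟩⟩
  have eI : (∐ fun i => (twist L).obj (P i)) ≅ (twist L).obj (Cyc.cycleSheafPos a) :=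
    @asIso _ _ _ _ (sigmaComparison (twist L) P) (isIso_twist_sigmaComparison hL P)
  rw [← cls_iso eI]
  have hgen : ∀ i, IsGenAt (specializes_rfl : ξ i ⤳ ξ i) (P i) (ptGerm (ξ i) (ξ i)) := fun i => isGenAt_ptGerm _
  choose g₂ hg₂ e₂ using fun i =>
    exists_toKap _ _ (hgen i) (nontrivial_ptGerm hδ (ξ i)) (1 : X.residueField (ξ i)) one_ne_zero
  -- generators of the twisted sheaves
  have hTgen : ∀ i {x : X} (h : ξ i ⤳ x) (t : L.presheaf.stalk x),
      Submodule.span (X.presheaf.stalk x) {t} = ⊤ → IsGenAt h ((twist L).obj (P i)) (tm (ptGerm (ξ i) x) t) := by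
    intro i x h t ht
    obtain ⟨hb, -⟩ := gen_bijective hL ht
    let ρ := rho x t hb (P i)
    have hρ : ρ (tm (ptGerm (ξ i) x) t) = ptGerm (ξ i) x := rho_tm x t hb (P i) _
    obtain ⟨g1, g2⟩ := isGenAt_ptGerm (ξ := ξ i) h
    refine ⟨fun m => ?_, fun r hr => ρ.injective ?_⟩
    · obtain ⟨r, hr⟩ := g1 (ρ m)
      exact ⟨r, ρ.injective ((map_smul ρ r _).trans ((congrArg (r • ·) hρ).trans hr))⟩
    · exact (map_smul ρ r _).trans ((congrArg (r • ·) hρ).trans ((g2 r hr).trans (map_zero ρ).symm))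
  choose ht₀ φ₀ hφ₀ using fun i => exists_fibre_coeff hL (specializes_refl (ξ i)) (s (ξ i))
  let t₀ : ∀ i, L.presheaf.stalk (ξ i) := fun i => (ht₀ i).choose
  have hspr : ∀ i, L.presheaf.stalkSpecializes (specializes_refl (ξ i)) (t₀ i) = t₀ i := fun i => by
    rw [TopCat.Presheaf.stalkSpecializes_refl]; rfl
  have hc₀ : ∀ i, ((X.residue (ξ i)).hom (φ₀ i))⁻¹ ≠ 0 := fun i => inv_ne_zero fun h0 => hs (ξ i) (by
    rw [hφ₀ i]; exact (mk_eq_zero_iff hL _ (ht₀ i).choose_spec _).2 h0)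
  have hTnt : ∀ i, Nontrivial (((twist L).obj (P i)).presheaf.stalk (ξ i)) := fun i => mem_support_iff.1 (by
    rw [support_twist hL]; exact mem_support_iff.2 (nontrivial_ptGerm hδ (ξ i)))
  choose g₁ hg₁ e₁ using fun i =>
    exists_toKap _ _ (hTgen i specializes_rfl (t₀ i) (ht₀ i).choose_spec) (hTnt i) _ (hc₀ i)
  have h := cls_family hδ ξ hlI (fun i => hdT i.1) (fun i => (twist L).obj (P i)) P
    (fun i => cohAt_twist hL (cohAt_pointSheaf (ξ i))) (fun i => cohAt_pointSheaf (ξ i)) g₁ g₂ hg₁ hg₂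
    (fun i x => Cyc.secDivFun δ L (ξ i) (s (ξ i)) x) ?_ ?_ γ hγk ?_
  · exact h
  · intro i x hsp hx
    have hdx : δ x + 1 = δ (ξ i) := by rw [hdT i.1, hx]
    obtain ⟨ht, φ, hsφ⟩ := exists_fibre_coeff hL hsp (s (ξ i))
    obtain ⟨β, hβ⟩ := ((gen_bijective hL (ht₀ i).choose_spec).1).2 (L.presheaf.stalkSpecializes hsp ht.choose)
    have hφ : (X.residue (ξ i)).hom φ ≠ 0 := fun h0 => hs (ξ i) (by
      rw [hsφ]; exact (mk_eq_zero_iff hL hsp ht.choose_spec φ).2 h0)
    have hrel : (X.residue (ξ i)).hom (φ₀ i) = (X.residue (ξ i)).hom φ * (X.residue (ξ i)).hom β := by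
      have h1 := (hφ₀ i).symm.trans hsφ
      rw [show L.presheaf.stalkSpecializes hsp ht.choose = β • t₀ i from hβ.symm, smul_smul,
        show (ht₀ i).choose = t₀ i from rfl, ← sub_eq_zero, ← Submodule.Quotient.mk_sub, hspr i, ← sub_smul] at h1
      have h2 := (mk_eq_zero_iff hL (specializes_refl (ξ i)) (ht₀ i).choose_spec _).1
        ((congrArg (fun v => (Submodule.Quotient.mk ((φ₀ i - φ * β) • v) : Cyc.secFibre L (ξ i))) (hspr i)).trans h1)
      rwa [map_sub, map_mul, sub_eq_zero] at h2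
    have hspec : ((twist L).obj (P i)).presheaf.stalkSpecializes hsp (tm (ptGerm (ξ i) x) ht.choose) =
        β • tm (ptGerm (ξ i) (ξ i)) (t₀ i) := by
      refine (tm_specializes hsp _ _).trans ?_
      rw [ptGerm_specializes (ξ i) hsp, ← hβ]
      exact tm_smul_right _ β _
    have hval : (show X.residueField (ξ i) from g₁ i (((twist L).obj (P i)).presheaf.stalkSpecializes hsp
        (tm (ptGerm (ξ i) x) ht.choose))) = ((X.residue (ξ i)).hom φ)⁻¹ := by
      rw [hspec]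
      have : (show X.residueField (ξ i) from g₁ i (β • tm (ptGerm (ξ i) (ξ i)) (t₀ i))) =
          (X.residue (ξ i)).hom β * ((X.residue (ξ i)).hom (φ₀ i))⁻¹ := by
        rw [← e₁ i, ← kap_smul]
        exact map_smul (g₁ i).hom β _
      rw [this, hrel, mul_inv, mul_left_comm, mul_inv_cancel₀, mul_one]
      intro h0
      refine hc₀ i ?_
      rw [hrel, h0, mul_zero, inv_zero]
    refine ⟨tm (ptGerm (ξ i) x) ht.choose, ptGerm (ξ i) x, hTgen i hsp _ ht.choose_spec, isGenAt_ptGerm hsp, ?_⟩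
    rw [hval, ptGerm_specializes (ξ i) hsp, e₂ i]
    refine ⟨inv_ne_zero hφ, one_ne_zero, ?_⟩
    have ho := ordAt_mul hδ hsp hdx (inv_ne_zero hφ) hφ
    rw [inv_mul_cancel₀ hφ, ordAt_one hδ hsp hdx] at ho
    have hw : Cyc.secDivFun δ L (ξ i) (s (ξ i)) x = Cyc.ordAt x (ξ i) hsp ((X.residue (ξ i)).hom φ) := by
      rw [Cyc.secDivFun, dif_pos ⟨hsp, hdx⟩, hsφ, secOrdAt_coeff hL hsp ht φ]
    rw [hw, ordAt_one hδ hsp hdx]
    omega
  · intro i x _ hsp
    rw [Cyc.secDivFun, dif_neg fun h' => hsp h'.1]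
  · intro x _
    rw [hγ]
    let S : Finset (Pts a) := (hlT.point_finite x).toFinset
    let w : X → ℤ := fun ζ => Cyc.secDivFun δ L ζ (s ζ) x
    have hw0 : ∀ ζ, w ζ ≠ 0 → x ∈ closure ({ζ} : Set X) := fun ζ hζ => by
      by_contra hne
      exact hζ (by simp only [w, Cyc.secDivFun]; rw [dif_neg fun h' => hne (specializes_iff_mem_closure.1 h'.1)])
    show ∑ᶠ ζ : X, a ζ * w ζ = ∑ᶠ i : (Σ ζ : Pts a, Fin (mlt a ζ)), w i.1.1
    rw [finsum_eq_sum_of_support_subset _ (s := S.map (Function.Embedding.subtype _)) fun ζ hζ => ?_,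
      finsum_eq_sum_of_support_subset _ (s := S.sigma fun t => (Finset.univ : Finset (Fin (mlt a t)))) fun i hi => ?_,
      Finset.sum_map, Finset.sum_sigma]
    · refine Finset.sum_congr rfl fun t _ => ?_
      show a t.1 * w t.1 = ∑ _ : Fin (mlt a t), w t.1
      rw [Finset.sum_const, Finset.card_univ, Fintype.card_fin, nsmul_eq_mul]
      rw [Int.toNat_of_nonneg t.2.le]
    · exact Finset.mem_coe.2 (Finset.mem_sigma.2 ⟨(hlT.point_finite x).mem_toFinset.2 (hw0 _ hi), Finset.mem_univ _⟩)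
    · have hmem := hw0 ζ fun h0 => hζ (show a ζ * w ζ = 0 by rw [h0, mul_zero])
      have hpos : 0 < a ζ := by
        have hne : a ζ ≠ 0 := fun h0 => hζ (show a ζ * w ζ = 0 by rw [h0, zero_mul])
        have : 0 ≤ a ζ := by
          simp only [ha, Cyc.sheafFun]; split_ifs <;> simp
        omega
      exact Finset.mem_coe.2 (Finset.mem_map.2 ⟨⟨ζ, hpos⟩, (hlT.point_finite x).mem_toFinset.2 hmem, rfl⟩)

end Groth.Agent.CycLib28.K0
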