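import Groth.Agent.KZeroLib.SigmaCoh
import Groth.Agent.Coherent.Devissage
import Groth.Agent.ModStalk.Exact
import Mathlib

/-!
# Locally finite families of modules indexed by an arbitrary type: coproducts, products, coherence
-/

set_option autoImplicit false
set_option backward.isDefEq.respectTransparency.types false
set_option linter.style.haveILetI false
universe u

open CategoryTheory CategoryTheory.Limits AlgebraicGeometry TopologicalSpace Opposite
  Groth.Agent.ModStalk

namespace Groth.Agent.CycLib28.K0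

variable {X : Scheme.{u}}

local notation "St" => DerSch.stalkFunctor X

theorem sigma_shortExact {C : Type*} [Category C] [Abelian C] {J : Type*} [HasColimitsOfShape (Discrete J) C]
    [HasExactColimitsOfShape (Discrete J) C] {A B D : J → C} (f : ∀ j, A j ⟶ B j) (g : ∀ j, B j ⟶ D j)
    (w : ∀ j, f j ≫ g j = 0) (h : ∀ j, (ShortComplex.mk (f j) (g j) (w j)).ShortExact) :
    (ShortComplex.mk (Limits.Sigma.map f) (Limits.Sigma.map g)
      (Limits.Sigma.hom_ext _ _ fun j => by simp [reassoc_of% (w j)])).ShortExact := by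
  haveI : ∀ j, Epi (g j) := fun j => (h j).epi_g
  haveI : ∀ j, Mono (f j) := fun j => (h j).mono_f
  haveI : Mono (Limits.Sigma.map f) := by
    let φ : Discrete.functor A ⟶ Discrete.functor B := Discrete.natTrans fun j => f j.as
    haveI : ∀ j, Mono (φ.app j) := fun j => inferInstanceAs (Mono (f j.as))
    haveI : Mono φ := NatTrans.mono_of_mono_app φ
    exact (colim : (Discrete J ⥤ C) ⥤ C).map_mono φ
  have hepi : Epi (Limits.Sigma.map g) := inferInstance
  refine ShortComplex.ShortExact.mk' ?_ inferInstance hepi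
  refine ShortComplex.exact_of_g_is_cokernel _ ?_
  refine CokernelCofork.IsColimit.ofπ _ _
    (fun {T} k hk => Limits.Sigma.desc fun j => (h j).gIsCokernel.desc (CokernelCofork.ofπ (Sigma.ι B j ≫ k) (by
      have := congrArg (Sigma.ι A j ≫ ·) hk
      simpa using this)))
    (fun {T} k hk => Limits.Sigma.hom_ext _ _ fun j => ?_) (fun {T} k hk m hm => Limits.Sigma.hom_ext _ _ fun j => ?_)
  · simp only [Limits.Sigma.ι_map_assoc, Limits.Sigma.ι_desc]
    exact (h j).gIsCokernel.fac _ WalkingParallelPair.one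
  · rw [Limits.Sigma.ι_desc]
    refine Cofork.IsColimit.hom_ext (h j).gIsCokernel ?_
    have := congrArg (Sigma.ι B j ≫ ·) hm
    rw [Limits.Sigma.ι_map_assoc] at this
    exact this.trans ((h j).gIsCokernel.fac (CokernelCofork.ofπ (Sigma.ι B j ≫ k) _) WalkingParallelPair.one).symm

variable {J : Type u} (f : J → X.Modules)

/-- The stalks of a coproduct are jointly generated by those of the summands. -/
theorem stalk_sigma_hom_ext (x : X) {T : ModuleCat.{u} (X.presheaf.stalk x)} (p q : (St x).obj (∐ f) ⟶ T)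
    (h : ∀ j, (St x).map (Sigma.ι f j) ≫ p = (St x).map (Sigma.ι f j) ≫ q) : p = q :=
  (isColimitOfPreserves (St x) (colimit.isColimit (Discrete.functor f))).hom_ext fun j => h j.as

theorem support_sigma_subset : CohB1.support (∐ f) ⊆ ⋃ j, CohB1.support (f j) := fun x hx => by
  by_contra h
  rw [Set.mem_iUnion, not_exists] at h
  refine (Coherent.notMem_support_iff _ x).2 ((IsZero.iff_id_eq_zero _).2 ?_) hx
  refine stalk_sigma_hom_ext f x _ _ fun j => ?_
  exact ((Coherent.notMem_support_iff _ x).1 (h j)).eq_of_src _ _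

theorem stalk_ι_eq_zero (x : X) {j : J} (h : x ∉ CohB1.support (f j)) : (St x).map (Sigma.ι f j) = 0 :=
  ((Coherent.notMem_support_iff _ x).1 h).eq_of_src _ _

open scoped Classical in
/-- the diagonal map from the coproduct to the product -/
noncomputable def sigmaToPi : ∐ f ⟶ ∏ᶜ f :=
  Limits.Sigma.desc fun i => Pi.lift fun j => if h : i = j then eqToHom (congrArg f h) else 0

theorem ι_sigmaToPi_π_self (i : J) : Sigma.ι f i ≫ sigmaToPi f ≫ Pi.π f i = 𝟙 (f i) := by
  simp [sigmaToPi]

theorem ι_sigmaToPi_π_ne {i j : J} (h : i ≠ j) : Sigma.ι f i ≫ sigmaToPi f ≫ Pi.π f j = 0 := by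
  simp [sigmaToPi, h]

/-- Near a point, an element of a stalk of a product is determined by finitely many projections. -/
theorem stalk_pi_eq_zero (x : X) (U : X.Opens) (hxU : x ∈ U) (s : Finset J)
    (hs : ∀ j ∉ s, Disjoint (U : Set X) (CohB1.support (f j))) (u : (St x).obj (∏ᶜ f))
    (hu : ∀ j ∈ s, (St x).map (Pi.π f j) u = 0) : u = 0 := by
  classical
  obtain ⟨V, hxV, m, rfl⟩ := (∏ᶜ f).presheaf.exists_germ_eq (show (∏ᶜ f).presheaf.stalk x from u)
  have key : ∀ t : Finset J, t ⊆ s → ∃ (W : X.Opens) (hW : W ≤ V ⊓ U), x ∈ W ∧ ∀ j ∈ t,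
      (f j).presheaf.map (homOfLE hW).op ((Pi.π f j).app (V ⊓ U)
        ((∏ᶜ f).presheaf.map (homOfLE (inf_le_left : V ⊓ U ≤ V)).op m)) = 0 := by
    intro t
    induction t using Finset.induction with
    | empty => exact fun _ => ⟨V ⊓ U, le_rfl, ⟨hxV, hxU⟩, fun j hj => (Finset.notMem_empty j hj).elim⟩
    | insert a t _ ih =>
      intro hts
      obtain ⟨W, hW, hxW, hWt⟩ := ih fun j hj => hts (Finset.mem_insert_of_mem hj)
      have h0 : (f a).presheaf.germ W x hxW ((f a).presheaf.map (homOfLE hW).op ((Pi.π f a).app (V ⊓ U)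
          ((∏ᶜ f).presheaf.map (homOfLE (inf_le_left : V ⊓ U ≤ V)).op m))) =
          (f a).presheaf.germ W x hxW 0 := by
        rw [map_zero]
        refine Eq.trans ?_ (hu a (hts (Finset.mem_insert_self a t)))
        rw [Coherent.stalk_map_germ, TopCat.Presheaf.germ_res_apply]
        erw [← Coherent.stalk_map_germ]
        rw [TopCat.Presheaf.germ_res_apply]
        exact Coherent.stalk_map_germ _ hxV m
      obtain ⟨W', hxW', i₁, i₂, e⟩ := TopCat.Presheaf.germ_eq (f a).presheaf x hxW hxW _ _ h0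
      refine ⟨W', i₁.le.trans hW, hxW', fun j hj => ?_⟩
      have hc : (homOfLE (i₁.le.trans hW)).op = (homOfLE hW).op ≫ i₁.op := Subsingleton.elim _ _
      rw [hc, Functor.map_comp, CategoryTheory.comp_apply]
      rcases Finset.mem_insert.1 hj with rfl | hj
      · exact e.trans (map_zero _)
      · rw [hWt j hj, map_zero]
  obtain ⟨W, hW, hxW, hWs⟩ := key s subset_rfl
  have hz : (∏ᶜ f).presheaf.map (homOfLE (hW.trans inf_le_left)).op m = 0 := by
    let G : X.Modules ⥤ Ab.{u} :=
      Scheme.Modules.toPresheaf X ⋙ (evaluation (Opens X)ᵒᵖ Ab).obj (op W)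
    haveI : PreservesLimitsOfShape (Discrete J)
        ((evaluation (Opens X)ᵒᵖ Ab.{u}).obj (op W)) := inferInstance
    haveI : PreservesLimitsOfShape (Discrete J) G :=
      comp_preservesLimitsOfShape (Scheme.Modules.toPresheaf X) _
    refine Concrete.isLimit_ext (Discrete.functor f ⋙ G)
      (isLimitOfPreserves G (limit.isLimit (Discrete.functor f))) _ _ fun j => ?_
    show (Pi.π f j.as).app W ((∏ᶜ f).presheaf.map (homOfLE (hW.trans inf_le_left)).op m) = (Pi.π f j.as).app W 0
    rw [map_zero]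
    by_cases hj : j.as ∈ s
    · refine Eq.trans ?_ (hWs j.as hj)
      have hn := ConcreteCategory.congr_hom ((Pi.π f j.as).mapPresheaf.naturality (homOfLE hW).op)
        ((∏ᶜ f).presheaf.map (homOfLE (inf_le_left : V ⊓ U ≤ V)).op m)
      have hr : (∏ᶜ f).presheaf.map (homOfLE (hW.trans inf_le_left)).op m =
          (∏ᶜ f).presheaf.map (homOfLE hW).op ((∏ᶜ f).presheaf.map (homOfLE (inf_le_left : V ⊓ U ≤ V)).op m) := by
        rw [← CategoryTheory.comp_apply, ← Functor.map_comp]
        rfl
      rw [hr]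
      exact hn
    · haveI := Coherent.subsingleton_sections_of_disjoint (f j.as) W
        ((hs j.as hj).mono_left fun z hz => (hW hz).2)
      exact Subsingleton.elim (α := Γ(f j.as, W)) _ _
  rw [← TopCat.Presheaf.germ_res_apply (∏ᶜ f).presheaf (homOfLE (hW.trans inf_le_left)) x hxW m, hz, map_zero]
  rfl

/-- For a locally finite family the coproduct is the product. -/
theorem isIso_sigmaToPi (hlf : LocallyFinite fun j => CohB1.support (f j)) : IsIso (sigmaToPi f) := by
  classical
  refine isIso_of_stalks _ fun x => ?_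
  obtain ⟨N, hN, hfin⟩ := hlf x
  obtain ⟨W, hWN, hW, hxW⟩ := mem_nhds_iff.1 hN
  have hs : ∀ j ∉ hfin.toFinset, Disjoint ((⟨W, hW⟩ : X.Opens) : Set X) (CohB1.support (f j)) := fun j hj => by
    refine Set.disjoint_left.2 fun z hzW hz => hj (hfin.mem_toFinset.2 ⟨z, hz, hWN hzW⟩)
  let g : (St x).obj (∏ᶜ f) ⟶ (St x).obj (∐ f) :=
    ∑ j ∈ hfin.toFinset, (St x).map (Pi.π f j) ≫ (St x).map (Sigma.ι f j)
  have hcg : (St x).map (sigmaToPi f) ≫ g = 𝟙 _ := by
    refine stalk_sigma_hom_ext f x _ _ fun i => ?_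
    rw [Category.comp_id, ← Category.assoc, ← Functor.map_comp, Preadditive.comp_sum]
    by_cases hi : i ∈ hfin.toFinset
    · rw [Finset.sum_eq_single i (fun j _ hji => ?_) (fun h => (h hi).elim)]
      · rw [← Functor.map_comp, ← Functor.map_comp, Category.assoc]
        rw [← Category.assoc, ← Category.assoc, Category.assoc (Sigma.ι f i), ι_sigmaToPi_π_self, Category.id_comp]
      · rw [← Functor.map_comp, ← Functor.map_comp, Category.assoc]
        rw [← Category.assoc (sigmaToPi f), ← Category.assoc, ι_sigmaToPi_π_ne f hji.symm, zero_comp, Functor.map_zero]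
    · have h0 : (St x).map (Sigma.ι f i) = 0 :=
        stalk_ι_eq_zero f x fun hx => Set.disjoint_left.1 (hs i hi) hxW hx
      rw [h0]
      refine Finset.sum_eq_zero fun j _ => ?_
      rw [Functor.map_comp, h0, zero_comp, zero_comp]
  refine ⟨g, hcg, ?_⟩
  ext v
  show (St x).map (sigmaToPi f) (g v) = v
  refine sub_eq_zero.1 (stalk_pi_eq_zero f x ⟨W, hW⟩ hxW hfin.toFinset hs _ fun j hj => ?_)
  rw [map_sub, sub_eq_zero]
  have he : g ≫ (St x).map (sigmaToPi f) ≫ (St x).map (Pi.π f j) = (St x).map (Pi.π f j) := by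
    rw [Preadditive.sum_comp, Finset.sum_eq_single j (fun i _ hij => ?_) (fun h => (h hj).elim)]
    · rw [← Functor.map_comp, ← Functor.map_comp, ← Functor.map_comp, Category.assoc, ι_sigmaToPi_π_self,
        Category.comp_id]
    · rw [← Functor.map_comp, ← Functor.map_comp, ← Functor.map_comp, Category.assoc, ι_sigmaToPi_π_ne f hij,
        comp_zero, Functor.map_zero]
  exact ConcreteCategory.congr_hom he v

/-- A family of maps, locally finitely supported, defines a map into the coproduct. -/
noncomputable def liftSigma (hlf : LocallyFinite fun j => CohB1.support (f j)) {T : X.Modules}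
    (φ : ∀ j, T ⟶ f j) : T ⟶ ∐ f :=
  haveI := isIso_sigmaToPi f hlf
  Pi.lift φ ≫ inv (sigmaToPi f)

theorem stalk_liftSigma_comp (hlf : LocallyFinite fun j => CohB1.support (f j)) {T : X.Modules}
    (φ : ∀ j, T ⟶ f j) (j : J) :
    liftSigma f hlf φ ≫ sigmaToPi f ≫ Pi.π f j = φ j := by
  haveI := isIso_sigmaToPi f hlf
  simp [liftSigma]

/-- The stalk at `x` of a coproduct with a single summand there. -/
theorem bijective_stalk_ι {x : X} {j : J} (h : ∀ i, i ≠ j → x ∉ CohB1.support (f i)) :
    Function.Bijective ((St x).map (Sigma.ι f j)) := by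
  have h1 : (St x).map (Sigma.ι f j) ≫ (St x).map (sigmaToPi f ≫ Pi.π f j) = 𝟙 _ := by
    rw [← Functor.map_comp, ι_sigmaToPi_π_self, CategoryTheory.Functor.map_id]
  have h2 : (St x).map (sigmaToPi f ≫ Pi.π f j) ≫ (St x).map (Sigma.ι f j) = 𝟙 _ := by
    refine stalk_sigma_hom_ext f x _ _ fun i => ?_
    rw [Category.comp_id]
    by_cases hi : i = j
    · subst hi; rw [reassoc_of% h1]
    · rw [stalk_ι_eq_zero f x (h i hi), zero_comp]
  haveI : IsIso ((St x).map (Sigma.ι f j)) := ⟨_, h1, h2⟩
  exact ConcreteCategory.bijective_of_isIso _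

theorem subsingleton_stalk_sigma {x : X} (h : ∀ i, x ∉ CohB1.support (f i)) :
    Subsingleton ((∐ f).presheaf.stalk x) :=
  not_not.1 fun hx => by
    obtain ⟨i, hi⟩ := Set.mem_iUnion.1 (support_sigma_subset f hx)
    exact h i hi

variable [IsLocallyNoetherian X]

/-- A locally finite coproduct of coherent modules is coherent. -/
theorem isCoh_sigma (hf : ∀ j, Coh.IsCoh (f j)) (hlf : LocallyFinite fun j => CohB1.support (f j)) :
    Coh.IsCoh (∐ f) := by
  classical
  choose N hN hfin using hlf
  choose W hW using fun x => mem_nhds_iff.1 (hN x)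
  let U : X → X.Opens := fun x => ⟨W x, (hW x).2.1⟩
  refine KZeroLib.isCoh_of_cover _ U (IsOpenCover.mk (eq_top_iff.2 fun x _ => Opens.mem_iSup.2 ⟨x, (hW x).2.2⟩)) fun x => ?_
  let s : Finset J := (hfin x).toFinset
  let e : Fin s.card ≃ s := s.equivFin.symm
  let g : Fin s.card → X.Modules := fun n => f (e n).1
  let a : ∐ g ⟶ ∐ f := Limits.Sigma.desc fun n => Sigma.ι f (e n).1
  let r : ∐ f ⟶ ∐ g := Limits.Sigma.desc fun j =>
    if h : j ∈ s then eqToHom (show f j = g (e.symm ⟨j, h⟩) by simp [g]) ≫ Sigma.ι g (e.symm ⟨j, h⟩) else 0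
  have har : a ≫ r = 𝟙 _ := Limits.Sigma.hom_ext _ _ fun n => by
    simp only [a, r, Limits.Sigma.ι_desc_assoc, Limits.Sigma.ι_desc, dif_pos (e n).2, Category.comp_id]
    have : ∀ (m : Fin s.card) (hm : m = n) (p : g n = g m), eqToHom p ≫ Sigma.ι g m = Sigma.ι g n := by
      rintro m rfl p; simp
    exact this _ (e.symm_apply_apply n) _
  haveI : Mono a := mono_of_mono_fac har
  let S := ShortComplex.mk a (cokernel.π a) (cokernel.condition a)
  have hS : S.ShortExact :=
    { exact := ShortComplex.exact_cokernel a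
      mono_f := inferInstanceAs (Mono a)
      epi_g := inferInstanceAs (Epi (cokernel.π a)) }
  have hz : IsZero ((cokernel a).restrict (U x).ι) := by
    refine KZeroLib.isZero_restrict_of_disjoint _ _ (Set.disjoint_left.2 fun z hz hzs => ?_)
    refine (Coherent.notMem_support_iff _ z).2 ((IsZero.iff_id_eq_zero _).2 ?_) hzs
    rw [← cancel_epi ((St z).map (cokernel.π a))]
    refine stalk_sigma_hom_ext f z _ _ fun j => ?_
    rw [Category.comp_id, comp_zero, comp_zero, ← Functor.map_comp]
    by_cases hj : j ∈ s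
    · have : Sigma.ι f j ≫ cokernel.π a = 0 := by
        have he : eqToHom (show f j = g (e.symm ⟨j, hj⟩) by simp [g]) ≫ Sigma.ι g (e.symm ⟨j, hj⟩) ≫ a =
            Sigma.ι f j := by
          simp only [a, Limits.Sigma.ι_desc]
          have : ∀ (k : J) (hk : k = j) (p : f j = f k), eqToHom p ≫ Sigma.ι f k = Sigma.ι f j := by
            rintro k rfl p; simp
          exact this _ (by simp) _
        rw [← he, Category.assoc, Category.assoc, cokernel.condition, comp_zero, comp_zero]
      rw [this, Functor.map_zero]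
    · rw [Functor.map_comp, stalk_ι_eq_zero f z (fun hzj => hj ((hfin x).mem_toFinset.2 ⟨z, hzj, (hW x).1 hz⟩)),
        zero_comp]
  have hS' := hS.map_of_exact (Scheme.Modules.restrictFunctor (U x).ι)
  haveI : IsIso ((Scheme.Modules.restrictFunctor (U x).ι).map a) := (hS'.isIso_f_iff).2 hz
  exact Coherent.isCoh_iso (asIso ((Scheme.Modules.restrictFunctor (U x).ι).map a))
    (Coherent.isCoh_restrict (U x) (KZeroLib.isCoh_sigma_finite ⟨inferInstance⟩ g fun n => hf _))

end Groth.Agent.CycLib28.K0
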