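import Groth.Prelude.Def_ChowK
import Groth.Agent.CycLib28.K0.SigmaU
import Groth.Agent.CycLib28.Sheaf
import Groth.Agent.CycLib28.P1Cycle
import Mathlib

/-!
# The groups `K₀(Coh_{≤a}/Coh_{≤b})`: basic rules and comparison on stalks
-/

set_option autoImplicit false
set_option linter.style.haveILetI false
set_option backward.isDefEq.respectTransparency.types false
universe u

open CategoryTheory CategoryTheory.Limits AlgebraicGeometry Groth.Agent.Coherent
open scoped ZeroObject

namespace Groth.Agent.CycLib28.K0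

variable {X : Scheme.{u}} {δ : X → ℤ} {a b k : ℤ}

local notation "St" => DerSch.stalkFunctor X
local notation "cls" => Cyc.toK0CohQuot δ

theorem mem_support_iff {F : X.Modules} {x : X} : x ∈ CohB1.support F ↔ Nontrivial (F.presheaf.stalk x) :=
  not_subsingleton_iff_nontrivial

theorem cohLe_of_support {F : X.Modules} (hF : Coh.IsCoh F) {Z : Set X} (hsupp : CohB1.support F ⊆ Z)
    (hZ : ∀ x ∈ Z, δ x ≤ a) : Cyc.CohLe δ a F :=
  ⟨hF, fun x hx => hZ x (hsupp (mem_support_iff.2 hx))⟩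

theorem CohLe.support_le {F : X.Modules} (h : Cyc.CohLe δ a F) {x : X} (hx : x ∈ CohB1.support F) : δ x ≤ a :=
  h.2 x (mem_support_iff.1 hx)

theorem CohLe.weaken {F : X.Modules} (h : Cyc.CohLe δ b F) (hba : b ≤ a) : Cyc.CohLe δ a F :=
  ⟨h.1, fun x hx => (h.2 x hx).trans hba⟩

theorem CohLe.subsingleton {F : X.Modules} (h : Cyc.CohLe δ a F) {x : X} (hx : a < δ x) :
    Subsingleton (F.presheaf.stalk x) :=
  not_nontrivial_iff_subsingleton.1 fun hn => absurd (h.2 x hn) (not_le.2 hx)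

variable [IsLocallyNoetherian X]

theorem CohLe.zero {F : X.Modules} (h : IsZero F) : Cyc.CohLe δ a F :=
  ⟨KZeroLib.isCoh_isZero h, fun x hx => by
    haveI := ModuleCat.subsingleton_of_isZero ((St x).map_isZero h)
    exact absurd hx (not_nontrivial_iff_subsingleton.2 (inferInstanceAs (Subsingleton ((St x).obj F))))⟩

theorem CohLe.of_iso {F G : X.Modules} (e : F ≅ G) (h : Cyc.CohLe δ a F) : Cyc.CohLe δ a G :=
  cohLe_of_support (isCoh_iso e h.1) (support_subset_of_epi e.hom) fun _ => CohLe.support_le h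

theorem CohLe.ext {S : ShortComplex X.Modules} (hS : S.ShortExact) (h₁ : Cyc.CohLe δ a S.X₁)
    (h₃ : Cyc.CohLe δ a S.X₃) : Cyc.CohLe δ a S.X₂ :=
  cohLe_of_support (isCoh_X₂ hS h₁.1 h₃.1) (support_X₂_subset hS) fun _ hx =>
    hx.elim (CohLe.support_le h₁) (CohLe.support_le h₃)

theorem CohLe.biprod {F G : X.Modules} (h₁ : Cyc.CohLe δ a F) (h₂ : Cyc.CohLe δ a G) :
    Cyc.CohLe δ a (F ⊞ G) :=
  CohLe.ext (ShortComplex.Splitting.ofHasBinaryBiproduct F G).shortExact h₁ h₂

/-! ### The class map -/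

omit [IsLocallyNoetherian X] in
theorem cls_eq (F : X.Modules) (h : Cyc.CohLe δ a F) :
    cls a b F = QuotientAddGroup.mk (QuotientAddGroup.mk (FreeAbelianGroup.of (⟨F, h⟩ : Subtype (Cyc.CohLe δ a)))) :=
  congrArg QuotientAddGroup.mk (dif_pos h)

omit [IsLocallyNoetherian X] in
theorem cls_ses {S : ShortComplex X.Modules} (hS : S.ShortExact) (h₁ : Cyc.CohLe δ a S.X₁)
    (h₂ : Cyc.CohLe δ a S.X₂) (h₃ : Cyc.CohLe δ a S.X₃) :
    cls a b S.X₂ = cls a b S.X₁ + cls a b S.X₃ := by
  have key : KZero.clSub (Cyc.CohLe δ a) S.X₂ =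
      KZero.clSub (Cyc.CohLe δ a) S.X₁ + KZero.clSub (Cyc.CohLe δ a) S.X₃ := by
    rw [KZero.clSub, KZero.clSub, KZero.clSub, dif_pos h₁, dif_pos h₂, dif_pos h₃, ← QuotientAddGroup.mk_add,
      eq_comm, QuotientAddGroup.eq]
    refine AddSubgroup.subset_closure ⟨S, h₁, h₂, h₃, hS, ?_⟩
    abel
  exact (congrArg QuotientAddGroup.mk key).trans (QuotientAddGroup.mk_add _ _ _)

omit [IsLocallyNoetherian X] in
theorem cls_eq_zero {F : X.Modules} (h : Cyc.CohLe δ b F) : cls a b F = 0 :=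
  (QuotientAddGroup.eq_zero_iff _).2 (AddSubgroup.subset_closure ⟨F, h, rfl⟩)

theorem cls_isZero {F : X.Modules} (h : IsZero F) : cls a b F = 0 := cls_eq_zero (CohLe.zero h)

theorem cls_iso {F G : X.Modules} (e : F ≅ G) : cls a b F = cls a b G := by
  by_cases hF : Cyc.CohLe δ a F
  · obtain ⟨Z, hZ⟩ := HasZeroObject.zero (C := X.Modules)
    have hz : IsZero (0 : X.Modules) := isZero_zero _
    let S := ShortComplex.mk e.hom (0 : G ⟶ (0 : X.Modules)) comp_zero
    have hS : S.ShortExact :=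
      { exact := (S.exact_iff_epi rfl).2 (inferInstanceAs (Epi e.hom))
        mono_f := inferInstanceAs (Mono e.hom)
        epi_g := ⟨fun _ _ _ => hz.eq_of_src _ _⟩ }
    have := cls_ses (b := b) hS hF (CohLe.of_iso e hF) (CohLe.zero hz)
    rw [show cls a b S.X₃ = 0 from cls_isZero hz, add_zero] at this
    exact this.symm
  · have hG : ¬ Cyc.CohLe δ a G := fun h => hF (CohLe.of_iso e.symm h)
    rw [Cyc.toK0CohQuot, Cyc.toK0CohQuot, KZero.clSub, KZero.clSub, dif_neg hF, dif_neg hG]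

theorem cls_biprod {F G : X.Modules} (h₁ : Cyc.CohLe δ a F) (h₂ : Cyc.CohLe δ a G) :
    cls a b (F ⊞ G) = cls a b F + cls a b G :=
  cls_ses (ShortComplex.Splitting.ofHasBinaryBiproduct F G).shortExact h₁ (CohLe.biprod h₁ h₂) h₂

/-- Maps that are bijective on the stalks at the points of dimension `> b` do not change the class. -/
theorem cls_eq_of_bijective {E F : X.Modules} (φ : E ⟶ F) (hE : Cyc.CohLe δ a E) (hF : Cyc.CohLe δ a F)
    (hφ : ∀ x, b < δ x → Function.Bijective ((St x).map φ)) : cls a b E = cls a b F := by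
  have := hE.1.1
  have := hF.1.1
  let ι := Abelian.image.ι φ
  let π := Abelian.factorThruImage φ
  have hI : Coh.IsQCoh (Abelian.image φ) := isQCoh_image φ
  have hIm : Cyc.CohLe δ a (Abelian.image φ) :=
    cohLe_of_support (isCoh_of_mono ι hF.1 hI) (support_subset_of_mono ι) fun _ => (CohLe.support_le hF)
  have hker : Cyc.CohLe δ a (kernel φ) :=
    cohLe_of_support (isCoh_kernel φ hE.1 hF.1.1) (support_subset_of_mono (kernel.ι φ)) fun _ => (CohLe.support_le hE)
  have hcok : Cyc.CohLe δ a (cokernel φ) :=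
    cohLe_of_support (isCoh_cokernel φ hE.1.1 hF.1) (support_subset_of_epi (cokernel.π φ)) fun _ => (CohLe.support_le hF)
  have hk : Cyc.CohLe δ b (kernel φ) := ⟨hker.1, fun x hx => le_of_not_gt fun hbx => by
    refine not_subsingleton_iff_nontrivial.2 hx (subsingleton_of_forall_eq 0 fun a => ?_)
    refine (ModuleCat.mono_iff_injective ((St x).map (kernel.ι φ))).1 inferInstance ((hφ x hbx).1 ?_)
    erw [map_zero, map_zero, stalk_comp_apply, kernel.condition, stalk_zero_apply]⟩
  have hc : Cyc.CohLe δ b (cokernel φ) := ⟨hcok.1, fun x hx => le_of_not_gt fun hbx => by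
    refine not_subsingleton_iff_nontrivial.2 hx (subsingleton_of_forall_eq 0 fun c => ?_)
    obtain ⟨v, rfl⟩ := (ModuleCat.epi_iff_surjective ((St x).map (cokernel.π φ))).1 inferInstance c
    obtain ⟨e, rfl⟩ := (hφ x hbx).2 v
    refine (stalk_comp_apply _ _ _).trans ?_
    rw [cokernel.condition]; exact stalk_zero_apply _⟩
  have w₁ : kernel.ι φ ≫ π = 0 := by
    rw [← cancel_mono ι, Category.assoc, Abelian.image.fac, kernel.condition, zero_comp]
  have hS₁ : (ShortComplex.mk (kernel.ι φ) π w₁).ShortExact :=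
    { mono_f := inferInstanceAs (Mono (kernel.ι φ))
      epi_g := inferInstanceAs (Epi (Abelian.factorThruImage φ))
      exact := ShortComplex.exact_of_f_is_kernel _
        (isKernelOfComp (f := π) ι φ (kernelIsKernel φ) w₁ (Abelian.image.fac φ)) }
  have hS₂ : (ShortComplex.mk ι (cokernel.π φ) (kernel.condition (cokernel.π φ))).ShortExact :=
    { exact := ShortComplex.exact_of_f_is_kernel _ (kernelIsKernel (cokernel.π φ))
      mono_f := inferInstanceAs (Mono (kernel.ι (cokernel.π φ)))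
      epi_g := inferInstanceAs (Epi (cokernel.π φ)) }
  have e₁ : cls a b E = cls a b (kernel φ) + cls a b (Abelian.image φ) := cls_ses hS₁ hker hE hIm
  have e₂ : cls a b F = cls a b (Abelian.image φ) + cls a b (cokernel φ) := cls_ses hS₂ hIm hF hcok
  rw [e₁, e₂, cls_eq_zero hk, cls_eq_zero hc, zero_add, add_zero]

/-- Every class is a difference of two classes of modules. -/
theorem exists_sub (c : Cyc.K0CohQuot δ a b) :
    ∃ F G : X.Modules, Cyc.CohLe δ a F ∧ Cyc.CohLe δ a G ∧ c = cls a b F - cls a b G := by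
  obtain ⟨d, rfl⟩ := QuotientAddGroup.mk_surjective c
  obtain ⟨e, rfl⟩ := QuotientAddGroup.mk_surjective d
  have hz : Cyc.CohLe δ a (0 : X.Modules) := CohLe.zero (isZero_zero _)
  induction e using FreeAbelianGroup.induction_on with
  | zero => exact ⟨0, 0, hz, hz, (sub_self _).symm⟩
  | of F => exact ⟨F.1, 0, F.2, hz, by rw [cls_isZero (isZero_zero _), sub_zero, cls_eq F.1 F.2]⟩
  | neg F _ => exact ⟨0, F.1, hz, F.2, by
      rw [cls_isZero (isZero_zero _), zero_sub, cls_eq F.1 F.2]; rfl⟩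
  | add x y hx hy =>
    obtain ⟨F, G, hF, hG, e⟩ := hx
    obtain ⟨F', G', hF', hG', e'⟩ := hy
    refine ⟨F ⊞ F', G ⊞ G', CohLe.biprod hF hF', CohLe.biprod hG hG', ?_⟩
    rw [cls_biprod hF hF', cls_biprod hG hG', add_sub_add_comm, ← e, ← e']
    rfl

/-! ### The cycle map -/

omit [IsLocallyNoetherian X] in
theorem sheafFun_eq_zero {F : X.Modules} (hF : Cyc.CohLe δ b F) (hb : b < k) : Cyc.sheafFun δ k F = 0 := by
  funext x
  simp only [Cyc.sheafFun, Pi.zero_apply]
  split_ifs with hx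
  · haveI := CohLe.subsingleton hF (x := x) (hx ▸ hb)
    rw [Module.length_eq_zero_iff.2 inferInstance]; rfl
  · rfl

/-- The map `[F] ↦ [F]_k`. -/
noncomputable def cycleHom (hδ : Cyc.IsDimFun X δ) (k : ℤ) : Cyc.K0CohQuot δ k (k - 1) →+ (X → ℤ) :=
  QuotientAddGroup.lift _
    (QuotientAddGroup.lift (KZero.relSub (Cyc.CohLe δ k))
      (FreeAbelianGroup.lift fun F => Cyc.sheafFun δ k F.1) (by
      rw [KZero.relSub, AddSubgroup.closure_le]
      rintro x ⟨S, h₁, h₂, h₃, hS, rfl⟩
      rw [SetLike.mem_coe, AddMonoidHom.mem_ker, map_sub, map_sub, FreeAbelianGroup.lift_apply_of,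
        FreeAbelianGroup.lift_apply_of, FreeAbelianGroup.lift_apply_of, sheafFun_add hδ k S hS h₂.1 h₂.2]
      abel))
    (by
      rw [AddSubgroup.closure_le]
      rintro x ⟨F, hF, rfl⟩
      rw [SetLike.mem_coe, AddMonoidHom.mem_ker, KZero.clSub, dif_pos (CohLe.weaken hF (sub_le_self k zero_le_one))]
      exact (FreeAbelianGroup.lift_apply_of _ _).trans (sheafFun_eq_zero hF (sub_one_lt k)))

theorem cycleHom_cls (hδ : Cyc.IsDimFun X δ) (k : ℤ) {F : X.Modules} (hF : Cyc.CohLe δ k F) :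
    cycleHom hδ k (cls k (k - 1) F) = Cyc.sheafFun δ k F := by
  rw [cls_eq F hF]
  exact FreeAbelianGroup.lift_apply_of _ _

/-- The natural map between the quotients. -/
noncomputable def raiseHom (δ : X → ℤ) {a a' : ℤ} (h : a ≤ a') (b : ℤ) :
    Cyc.K0CohQuot δ a b →+ Cyc.K0CohQuot δ a' b :=
  QuotientAddGroup.lift _
    (QuotientAddGroup.lift (KZero.relSub (Cyc.CohLe δ a))
      (FreeAbelianGroup.lift fun F => Cyc.toK0CohQuot δ a' b F.1) (by
      rw [KZero.relSub, AddSubgroup.closure_le]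
      rintro x ⟨S, h₁, h₂, h₃, hS, rfl⟩
      rw [SetLike.mem_coe, AddMonoidHom.mem_ker, map_sub, map_sub, FreeAbelianGroup.lift_apply_of,
        FreeAbelianGroup.lift_apply_of, FreeAbelianGroup.lift_apply_of,
        cls_ses hS (CohLe.weaken h₁ h) (CohLe.weaken h₂ h) (CohLe.weaken h₃ h)]
      abel))
    (by
      rw [AddSubgroup.closure_le]
      rintro x ⟨F, hF, rfl⟩
      rw [SetLike.mem_coe, AddMonoidHom.mem_ker, KZero.clSub]
      by_cases hFa : Cyc.CohLe δ a F
      · rw [dif_pos hFa]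
        exact (FreeAbelianGroup.lift_apply_of _ _).trans (cls_eq_zero hF)
      · rw [dif_neg hFa]
        exact AddMonoidHom.map_zero _)

theorem raiseHom_cls {a a' : ℤ} (h : a ≤ a') {F : X.Modules} (hF : Cyc.CohLe δ a F) :
    raiseHom δ h b (cls a b F) = cls a' b F := by
  rw [cls_eq F hF]
  exact FreeAbelianGroup.lift_apply_of (fun F : Subtype (Cyc.CohLe δ a) => Cyc.toK0CohQuot δ a' b F.1) ⟨F, hF⟩

end Groth.Agent.CycLib28.K0
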