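import Groth.Agent.CycLib28.K0.Families
import Groth.Agent.CycLib28.P1Graph
import Groth.Agent.CycLib28.PushPull
import Mathlib

/-!
# `K₀(Coh_{≤k}/Coh_{≤k-1})` and the group of cycles
-/

set_option autoImplicit false
set_option linter.style.haveILetI false
set_option backward.isDefEq.respectTransparency.types false
universe u

open CategoryTheory CategoryTheory.Limits AlgebraicGeometry Groth.Agent.Coherent

namespace Groth.Agent.CycLib28.K0

variable {X : Scheme.{u}} {δ : X → ℤ} {k : ℤ}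

local notation "St" => DerSch.stalkFunctor X
local notation "cls" => Cyc.toK0CohQuot δ

/-- the points with positive coefficient -/
abbrev Pts (a : X → ℤ) : Type u := {ζ : X // 0 < a ζ}

/-- the multiplicity -/
abbrev mlt (a : X → ℤ) (t : Pts a) : ℕ := (a t.1).toNat

theorem mlt_pos (a : X → ℤ) (t : Pts a) : 0 < mlt a t := by
  have := t.2; simp only [mlt]; omega

/-- the sheaf of a cycle as an iterated coproduct -/
noncomputable def cycleSheafIso (a : X → ℤ) :
    (∐ fun t : Pts a => ∐ fun _ : Fin (mlt a t) => Cyc.closureStructureSheaf t.1) ≅ Cyc.cycleSheafPos a :=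
  sigmaSigmaIso (fun t : Pts a => Fin (mlt a t)) (fun t _ => Cyc.closureStructureSheaf t.1)

/-- A function with locally finite support has a locally finite family of closures of points. -/
theorem locallyFinite_closure_of_cycle (α : AlgebraicCycle X ℤ) (a : X → ℤ) (ha : ∀ x, 0 < a x → α x ≠ 0) :
    LocallyFinite fun t : Pts a => closure ({t.1} : Set X) := fun x => by
  obtain ⟨N, hN, hfin⟩ := α.supportLocallyFiniteWithinDomain' x (Set.mem_univ x)
  obtain ⟨U, hUN, hU, hxU⟩ := mem_nhds_iff.1 hN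
  refine ⟨U, hU.mem_nhds hxU, (hfin.preimage Subtype.val_injective.injOn).subset fun t ht => ?_⟩
  obtain ⟨z, hz, hzU⟩ := ht
  exact ⟨hUN ((specializes_iff_mem_closure.2 hz).mem_open hU hzU), ha _ t.2⟩

section Outer

variable [IsLocallyNoetherian X] {I : Type u} {p : I → X} (hδ : Cyc.IsDimFun X δ)
  (hp : LocallyFinite fun i => closure ({p i} : Set X)) (hd : ∀ i, δ (p i) = k)

include hδ hp hd

theorem cohLe_outer (f : I → X.Modules) (hf : ∀ i, CohAt (p i) (f i)) : Cyc.CohLe δ k (∐ f) :=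
  cohLe_sigma hδ hp (fun i => (hd i).le) id (fun i => Set.finite_singleton i) f (fun i => (hf i).1) fun i => (hf i).2

theorem cls_outer_eq (f g : I → X.Modules) (hf : ∀ i, CohAt (p i) (f i)) (hg : ∀ i, CohAt (p i) (g i))
    (α : ∀ i, f i ⟶ g i) (hα : ∀ i, Function.Bijective ((St (p i)).map (α i))) :
    cls k (k - 1) (∐ f) = cls k (k - 1) (∐ g) := by
  refine cls_eq_of_bijective (Limits.Sigma.map α) (cohLe_outer hδ hp hd f hf) (cohLe_outer hδ hp hd g hg)
    fun x hx => bijective_stalk_sigmaMap x α fun i => ?_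
  by_cases h : x ∈ closure ({p i} : Set X)
  · rw [eq_of_mem_closure hδ (hd i) h (by omega)]
    exact hα i
  · exact bijective_of_subsingleton_stalks _ (fun hx' => h ((hf i).2 hx')) (fun hx' => h ((hg i).2 hx'))

theorem cls_outer_eq_zero (f : I → X.Modules) (hf : ∀ i, CohAt (p i) (f i))
    (h0 : ∀ i, p i ∉ CohB1.support (f i)) : cls k (k - 1) (∐ f) = 0 := by
  refine cls_eq_zero ⟨(cohLe_outer hδ hp hd f hf).1, fun x hx => ?_⟩
  obtain ⟨i, hi⟩ := Set.mem_iUnion.1 (support_sigma_subset f (mem_support_iff.2 hx))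
  by_contra h
  have e := eq_of_mem_closure hδ (hd i) ((hf i).2 hi) (by omega)
  exact h0 i (e ▸ hi)

theorem cls_outer_ses {A B D : I → X.Modules} (hA : ∀ i, CohAt (p i) (A i)) (hB : ∀ i, CohAt (p i) (B i))
    (hD : ∀ i, CohAt (p i) (D i))
    (h : ∀ i, ∃ (f : A i ⟶ B i) (g : B i ⟶ D i) (w : f ≫ g = 0), (ShortComplex.mk f g w).ShortExact) :
    cls k (k - 1) (∐ B) = cls k (k - 1) (∐ A) + cls k (k - 1) (∐ D) := by
  choose f g w hS using h
  exact cls_ses (sigma_shortExact f g w hS) (cohLe_outer hδ hp hd A hA) (cohLe_outer hδ hp hd B hB)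
    (cohLe_outer hδ hp hd D hD)

end Outer

variable [IsLocallyNoetherian X]

theorem cohAt_sigmaFin {ξ : X} {n : ℕ} (f : Fin n → X.Modules) (hf : ∀ j, CohAt ξ (f j)) : CohAt ξ (∐ f) :=
  ⟨isCoh_sigmaFin f fun j => (hf j).1, support_sigmaFin_subset f fun j => (hf j).2⟩

omit [IsLocallyNoetherian X] in
theorem len_sigmaFin_const (ξ : X) (Q : X.Modules) (n : ℕ) :
    len ξ (∐ fun _ : Fin n => Q) = n * len ξ Q := by
  induction n with
  | zero =>
    haveI : Subsingleton ((St ξ).obj (∐ fun _ : Fin 0 => Q)) := ModuleCat.subsingleton_of_isZero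
      ((St ξ).map_isZero ((IsZero.iff_id_eq_zero _).2 (Limits.Sigma.hom_ext _ _ fun j => j.elim0)))
    rw [len, Module.length_eq_zero_iff.2 inferInstance, Nat.cast_zero, zero_mul]
  | succ m ih =>
    obtain ⟨a, b, w, hS⟩ := KZeroLib.sum_shortExact (finSumFinEquiv (m := m) (n := 1)) (fun _ : Fin (m + 1) => Q)
    have h := len_add (ξ := ξ) hS
    refine h.trans ?_
    rw [show len ξ (∐ fun _ : Fin m => Q) = _ from ih]
    rw [len_congr (coproductUniqueIso (fun _ : Fin 1 => Q)).hom (ConcreteCategory.bijective_of_isIso _)]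
    push_cast
    rw [add_mul, one_mul]

/-! ### The chain of a module at a point -/

open scoped Classical in
/-- one step down -/
noncomputable def next (ξ : X) (G : X.Modules) : X.Modules :=
  if h : CohAt ξ G ∧ ∃ m : ℕ, len ξ G = m + 1 then (exists_step ξ h.1 h.2.choose_spec).choose else G

theorem next_spec (ξ : X) {G : X.Modules} (hG : CohAt ξ G) {m : ℕ} (hm : len ξ G = m + 1) :
    CohAt ξ (next ξ G) ∧ len ξ (next ξ G) = m ∧ ∃ (P : X.Modules) (i : next ξ G ⟶ G) (p : G ⟶ P) (w : i ≫ p = 0),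
      (ShortComplex.mk i p w).ShortExact ∧ CohAt ξ P ∧ len ξ P = 1 := by
  have h : CohAt ξ G ∧ ∃ m : ℕ, len ξ G = m + 1 := ⟨hG, m, hm⟩
  rw [next, dif_pos h]
  obtain ⟨P, i, p, w, hS, h₁, h₂, h₃, h₄⟩ := (exists_step ξ h.1 h.2.choose_spec).choose_spec
  refine ⟨h₁, ?_, P, i, p, w, hS, h₂, h₄⟩
  have e : ((h.2.choose + 1 : ℕ) : ℕ∞) = ((m + 1 : ℕ) : ℕ∞) := by
    push_cast; exact h.2.choose_spec.symm.trans hm
  have e' : h.2.choose = m := Nat.succ_injective (ENat.coe_inj.1 e)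
  exact h₃.trans (by rw [e'])

/-- the chain -/
noncomputable def chain (ξ : X) (G : X.Modules) : ℕ → X.Modules
  | 0 => G
  | j + 1 => next ξ (chain ξ G j)

theorem chain_spec (ξ : X) {G : X.Modules} (hG : CohAt ξ G) {n : ℕ} (hn : len ξ G = n) :
    ∀ j ≤ n, CohAt ξ (chain ξ G j) ∧ len ξ (chain ξ G j) = ((n - j : ℕ) : ℕ∞)
  | 0, _ => ⟨hG, hn⟩
  | j + 1, hj => by
    obtain ⟨h₁, h₂⟩ := chain_spec ξ hG hn j (by omega)
    have h₃ : len ξ (chain ξ G j) = ((n - (j + 1) : ℕ) : ℕ∞) + 1 := by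
      rw [h₂, ← ENat.coe_one, ← ENat.coe_add]; congr 1; omega
    exact ⟨(next_spec ξ h₁ h₃).1, (next_spec ξ h₁ h₃).2.1⟩

theorem chain_step (ξ : X) {G : X.Modules} (hG : CohAt ξ G) {n : ℕ} (hn : len ξ G = n) (j : Fin n) :
    ∃ (P : X.Modules) (i : chain ξ G (j + 1) ⟶ chain ξ G j) (p : chain ξ G j ⟶ P) (w : i ≫ p = 0),
      (ShortComplex.mk i p w).ShortExact ∧ CohAt ξ P ∧ len ξ P = 1 := by
  obtain ⟨h₁, h₂⟩ := chain_spec ξ hG hn j j.2.le
  have h₃ : len ξ (chain ξ G j) = ((n - (j + 1) : ℕ) : ℕ∞) + 1 := by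
    rw [h₂, ← ENat.coe_one, ← ENat.coe_add]; congr 1; have := j.2; omega
  exact (next_spec ξ h₁ h₃).2.2

theorem sheafFun_cycleSheafPos (hδ : Cyc.IsDimFun X δ) (α : AlgebraicCycle X ℤ) (hα : α ∈ Cyc.Zk X δ k)
    (a : X → ℤ) (ha : ∀ x, 0 < a x → α x ≠ 0) :
    Cyc.CohLe δ k (Cyc.cycleSheafPos a) ∧
      Cyc.sheafFun δ k (Cyc.cycleSheafPos a) = fun x => if δ x = k then max (a x) 0 else 0 := by
  have hd : ∀ t : Pts a, δ t.1 = k := fun t => by
    by_contra h; exact ha _ t.2 (hα _ h)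
  have hlf := locallyFinite_closure_of_cycle α a ha
  let f : Pts a → X.Modules := fun t => ∐ fun _ : Fin (mlt a t) => Cyc.closureStructureSheaf t.1
  have hf : ∀ t, CohAt t.1 (f t) := fun t => cohAt_sigmaFin _ fun _ => cohAt_pointSheaf t.1
  have hc : Cyc.CohLe δ k (∐ f) := cohLe_outer hδ hlf hd f hf
  refine ⟨CohLe.of_iso (cycleSheafIso a) hc, ?_⟩
  rw [← sheafFun_congr_iso (cycleSheafIso a)]
  funext x
  simp only [Cyc.sheafFun]
  split_ifs with hx
  · show (((len x (∐ f)).toNat : ℕ) : ℤ) = _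
    by_cases hpos : 0 < a x
    · have hb := bijective_stalk_ι f (x := x) (j := ⟨x, hpos⟩) fun t ht hxt =>
        ht (Subtype.ext (eq_of_mem_closure hδ (hd t) ((hf t).2 hxt) hx.ge).symm)
      rw [← len_congr _ hb, len_sigmaFin_const]
      show (((mlt a ⟨x, hpos⟩ : ℕ∞) * len x (InterSheaf.pointSheaf x)).toNat : ℤ) = _
      rw [len_pointSheaf hδ, mul_one, ENat.toNat_coe, max_eq_left hpos.le]
      exact Int.toNat_of_nonneg hpos.le
    · haveI := subsingleton_stalk_sigma f (x := x) fun t hxt =>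
        hpos (eq_of_mem_closure hδ (hd t) ((hf t).2 hxt) hx.ge ▸ t.2)
      rw [len, Module.length_eq_zero_iff.2 (inferInstanceAs (Subsingleton ((∐ f).presheaf.stalk x))),
        max_eq_right (not_lt.1 hpos)]
      rfl
  · rfl

theorem cls_eq_cycleSheafPos (hδ : Cyc.IsDimFun X δ) {F : X.Modules} (hF : Cyc.CohLe δ k F) :
    cls k (k - 1) F = cls k (k - 1) (Cyc.cycleSheafPos (Cyc.sheafFun δ k F)) := by
  classical
  set a := Cyc.sheafFun δ k F with ha
  obtain ⟨c, hc⟩ := exists_sheafFun_cycle hδ F hF.1 k hF.2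
  have hlf : LocallyFinite fun t : Pts a => closure ({t.1} : Set X) :=
    locallyFinite_closure_of_cycle c a fun x hx => by rw [hc, ← ha]; omega
  have hd : ∀ t : Pts a, δ t.1 = k := fun t => by
    by_contra h
    have := t.2
    simp only [ha, Cyc.sheafFun, if_neg h] at this
    exact lt_irrefl _ this
  have hlen : ∀ t : Pts a, len t.1 F = (mlt a t : ℕ∞) := fun t => by
    have h1 : a t.1 = ((len t.1 F).toNat : ℤ) := by
      simp only [ha, Cyc.sheafFun, if_pos (hd t)]; rfl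
    rw [mlt, h1, Int.toNat_natCast, ENat.coe_toNat (len_ne_top hδ hF (hd t))]
  -- the parts of `F`
  choose G q hG hq using fun t : Pts a => exists_part hF.1 t.1 (len_ne_top hδ hF (hd t))
  have hlenG : ∀ t, len t.1 (G t) = (mlt a t : ℕ∞) := fun t => (len_congr (q t) (hq t)).symm.trans (hlen t)
  have hlfG : LocallyFinite fun t => CohB1.support (G t) :=
    locallyFinite_of_points hlf id (fun i => Set.finite_singleton i) fun t => (hG t).2
  have hFG : cls k (k - 1) F = cls k (k - 1) (∐ G) := by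
    refine cls_eq_of_bijective (liftSigma G hlfG q) hF (cohLe_outer hδ hlf hd G hG) fun x hx => ?_
    by_cases ht : δ x = k ∧ 0 < a x
    · obtain ⟨hxk, hxa⟩ := ht
      let t : Pts a := ⟨x, hxa⟩
      have hι := bijective_stalk_ι G (x := x) (j := t) fun i hi hxi =>
        hi (Subtype.ext (eq_of_mem_closure hδ (hd i) ((hG i).2 hxi) hxk.ge).symm)
      have key : ∀ v, (St x).map (liftSigma G hlfG q) v = (St x).map (Sigma.ι G t) ((St x).map (q t) v) := fun v => by
        obtain ⟨w, hw⟩ := hι.2 ((St x).map (liftSigma G hlfG q) v)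
        have h1 : (St x).map (sigmaToPi G ≫ Pi.π G t) ((St x).map (Sigma.ι G t) w) = (St x).map (q t) v := by
          rw [hw, stalk_comp_apply, stalk_liftSigma_comp]
        rw [stalk_comp_apply, ι_sigmaToPi_π_self, stalk_id_apply] at h1
        rw [← hw, ← h1]
      rw [show ⇑((St x).map (liftSigma G hlfG q)) = ⇑((St x).map (Sigma.ι G t)) ∘ ⇑((St x).map (q t)) from funext key]
      exact hι.comp (hq t)
    · refine bijective_of_subsingleton_stalks _ (not_not.2 ?_) (not_not.2 ?_)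
      · by_cases hxk : δ x = k
        · have h1 : (len x F).toNat = 0 := by
            have h2 : ¬ (0 : ℤ) < ((len x F).toNat : ℤ) := fun h => ht ⟨hxk, by
              simp only [ha, Cyc.sheafFun, if_pos hxk]; exact h⟩
            omega
          exact (show Subsingleton ((St x).obj F) from Module.length_eq_zero_iff.1 (((ENat.toNat_eq_zero).1 h1).resolve_right (len_ne_top hδ hF hxk)))
        · exact CohLe.subsingleton hF (by omega)
      · refine subsingleton_stalk_sigma G fun i hxi => ht ?_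
        have e := eq_of_mem_closure hδ (hd i) ((hG i).2 hxi) (by omega)
        exact ⟨e ▸ hd i, e ▸ i.2⟩
  -- the pieces
  choose P i p w hS hP hlP using fun (t : Pts a) (j : Fin (mlt a t)) => chain_step t.1 (hG t) (hlenG t) j
  have hH : ∀ (t : Pts a) (j : ℕ), j ≤ mlt a t → CohAt t.1 (chain t.1 (G t) j) := fun t j hj =>
    (chain_spec t.1 (hG t) (hlenG t) j hj).1
  let A : Pts a → X.Modules := fun t => ∐ fun j : Fin (mlt a t) => chain t.1 (G t) j
  let B : Pts a → X.Modules := fun t => ∐ fun j : Fin (mlt a t) => chain t.1 (G t) (j + 1)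
  let P' : Pts a → X.Modules := fun t => ∐ P t
  let C : Pts a → X.Modules := fun t => ∐ fun j : Fin (mlt a t - 1) => chain t.1 (G t) (j + 1)
  let D : Pts a → X.Modules := fun t => ∐ fun _ : Fin 1 => G t
  let E : Pts a → X.Modules := fun t => ∐ fun _ : Fin 1 => chain t.1 (G t) (mlt a t - 1 + 1)
  have hA : ∀ t, CohAt t.1 (A t) := fun t => cohAt_sigmaFin _ fun j => hH t _ j.2.le
  have hB : ∀ t, CohAt t.1 (B t) := fun t => cohAt_sigmaFin _ fun j => hH t _ (by have := j.2; omega)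
  have hP' : ∀ t, CohAt t.1 (P' t) := fun t => cohAt_sigmaFin _ fun j => hP t j
  have hC : ∀ t, CohAt t.1 (C t) := fun t => cohAt_sigmaFin _ fun j => hH t _ (by have := j.2; omega)
  have hD : ∀ t, CohAt t.1 (D t) := fun t => cohAt_sigmaFin _ fun _ => hG t
  have hE : ∀ t, CohAt t.1 (E t) := fun t =>
    cohAt_sigmaFin _ fun _ => hH t _ (by have := mlt_pos a t; omega)
  have e₁ : cls k (k - 1) (∐ A) = cls k (k - 1) (∐ B) + cls k (k - 1) (∐ P') :=
    cls_outer_ses hδ hlf hd hB hA hP' fun t =>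
      ⟨_, _, _, KZeroLib.sigma_shortExact (fun j => i t j) (fun j => p t j) (fun j => w t j) (fun j => hS t j)⟩
  have e₂ : cls k (k - 1) (∐ A) = cls k (k - 1) (∐ C) + cls k (k - 1) (∐ D) := by
    refine cls_outer_ses hδ hlf hd hC hA hD fun t => ?_
    have hn := mlt_pos a t
    let φ : Fin (mlt a t - 1) ⊕ Fin 1 → Fin (mlt a t) :=
      Sum.elim (fun j => ⟨j + 1, by have := j.2; omega⟩) (fun _ => ⟨0, hn⟩)
    have hφ : Function.Bijective φ := by
      refine ⟨?_, fun j => ?_⟩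
      · rintro (x | x) (y | y) h <;> simp [φ] at h
        · exact congrArg Sum.inl (Fin.ext h)
        · exact congrArg Sum.inr (Subsingleton.elim _ _)
      · by_cases hj : (j : ℕ) = 0
        · exact ⟨.inr 0, Fin.ext hj.symm⟩
        · exact ⟨.inl ⟨j - 1, by have := j.2; omega⟩, Fin.ext (show (j : ℕ) - 1 + 1 = j by omega)⟩
    exact KZeroLib.sum_shortExact (Equiv.ofBijective φ hφ) (fun j : Fin (mlt a t) => chain t.1 (G t) j)
  have e₃ : cls k (k - 1) (∐ B) = cls k (k - 1) (∐ C) + cls k (k - 1) (∐ E) := by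
    refine cls_outer_ses hδ hlf hd hC hB hE fun t => ?_
    have hn := mlt_pos a t
    let φ : Fin (mlt a t - 1) ⊕ Fin 1 → Fin (mlt a t) :=
      Sum.elim (fun j => ⟨j, by have := j.2; omega⟩) (fun _ => ⟨mlt a t - 1, by omega⟩)
    have hφ : Function.Bijective φ := by
      refine ⟨?_, fun j => ?_⟩
      · rintro (x | x) (y | y) h <;> simp [φ] at h
        · exact congrArg Sum.inl (Fin.ext h)
        · have := x.2; omega
        · have := y.2; omega
        · exact congrArg Sum.inr (Subsingleton.elim _ _)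
      · by_cases hj : (j : ℕ) < mlt a t - 1
        · exact ⟨.inl ⟨j, hj⟩, rfl⟩
        · exact ⟨.inr 0, Fin.ext (show mlt a t - 1 = (j : ℕ) by have := j.2; omega)⟩
    exact KZeroLib.sum_shortExact (Equiv.ofBijective φ hφ) (fun j : Fin (mlt a t) => chain t.1 (G t) (j + 1))
  have e₄ : cls k (k - 1) (∐ E) = 0 := by
    refine cls_outer_eq_zero hδ hlf hd E hE fun t ht => ?_
    have hn := mlt_pos a t
    obtain ⟨-, hl⟩ := chain_spec t.1 (hG t) (hlenG t) (mlt a t - 1 + 1) (by omega)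
    rw [show mlt a t - (mlt a t - 1 + 1) = 0 by omega, Nat.cast_zero] at hl
    obtain ⟨-, hj⟩ := Set.mem_iUnion.1 (KZeroLib.support_sigma_subset _ ht)
    exact notMem_of_len_zero hl hj
  have e₅ : cls k (k - 1) (∐ G) = cls k (k - 1) (∐ D) :=
    cls_outer_eq hδ hlf hd G D hG hD (fun t => (coproductUniqueIso (fun _ : Fin 1 => G t)).inv)
      fun t => ConcreteCategory.bijective_of_isIso _
  choose N α β hN hα hβ using fun (t : Pts a) (j : Fin (mlt a t)) =>
    exists_common t.1 (hP t j) (cohAt_pointSheaf t.1) (hlP t j) (len_pointSheaf hδ t.1)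
  let N' : Pts a → X.Modules := fun t => ∐ N t
  let O' : Pts a → X.Modules := fun t => ∐ fun _ : Fin (mlt a t) => Cyc.closureStructureSheaf t.1
  have hN' : ∀ t, CohAt t.1 (N' t) := fun t => cohAt_sigmaFin _ fun j => hN t j
  have hO' : ∀ t, CohAt t.1 (O' t) := fun t => cohAt_sigmaFin _ fun _ => cohAt_pointSheaf t.1
  have e₆ : cls k (k - 1) (∐ P') = cls k (k - 1) (∐ N') :=
    cls_outer_eq hδ hlf hd P' N' hP' hN' (fun t => Limits.Sigma.map (α t))
      fun t => bijective_stalk_sigmaMap t.1 (α t) (hα t)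
  have e₇ : cls k (k - 1) (∐ O') = cls k (k - 1) (∐ N') :=
    cls_outer_eq hδ hlf hd O' N' hO' hN' (fun t => Limits.Sigma.map (β t))
      fun t => bijective_stalk_sigmaMap t.1 (β t) (hβ t)
  rw [← cls_iso (cycleSheafIso a), hFG, e₅]
  show cls k (k - 1) (∐ D) = cls k (k - 1) (∐ O')
  rw [e₇, ← e₆]
  have e₈ := e₁.symm.trans e₂
  rw [e₃, e₄, add_zero] at e₈
  exact add_left_cancel e₈.symm

theorem cycleHom_injective (hδ : Cyc.IsDimFun X δ) : Function.Injective (cycleHom hδ k) := by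
  rw [injective_iff_map_eq_zero]
  intro c hc
  obtain ⟨F, G, hF, hG, rfl⟩ := exists_sub c
  rw [map_sub, cycleHom_cls hδ k hF, cycleHom_cls hδ k hG, sub_eq_zero] at hc
  rw [cls_eq_cycleSheafPos hδ hF, hc, ← cls_eq_cycleSheafPos hδ hG, sub_self]

theorem cls_pos_sub_neg (hδ : Cyc.IsDimFun X δ) (α : AlgebraicCycle X ℤ) (hα : α ∈ Cyc.Zk X δ k) :
    Cyc.CohLe δ k (Cyc.cycleSheafPos ⇑α) ∧ Cyc.CohLe δ k (Cyc.cycleSheafNeg ⇑α) ∧
      cycleHom hδ k (cls k (k - 1) (Cyc.cycleSheafPos ⇑α) - cls k (k - 1) (Cyc.cycleSheafNeg ⇑α)) = ⇑α := by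
  obtain ⟨h₁, e₁⟩ := sheafFun_cycleSheafPos hδ α hα ⇑α fun x hx => ne_of_gt hx
  obtain ⟨h₂, e₂⟩ := sheafFun_cycleSheafPos hδ α hα (-⇑α) fun x hx h => by simp [h] at hx
  refine ⟨h₁, h₂, ?_⟩
  rw [map_sub, cycleHom_cls hδ k h₁, Cyc.cycleSheafNeg, cycleHom_cls hδ k h₂, e₁, e₂]
  funext x
  simp only [Pi.sub_apply, Pi.neg_apply]
  split_ifs with h
  · omega
  · rw [sub_zero, hα x h]

theorem range_cycleHom (hδ : Cyc.IsDimFun X δ) :
    Set.range (cycleHom hδ k) = {a | ∃ α : AlgebraicCycle X ℤ, α ∈ Cyc.Zk X δ k ∧ ⇑α = a} := by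
  refine Set.Subset.antisymm ?_ ?_
  · rintro _ ⟨c, rfl⟩
    obtain ⟨F, G, hF, hG, rfl⟩ := exists_sub c
    rw [map_sub, cycleHom_cls hδ k hF, cycleHom_cls hδ k hG]
    obtain ⟨α, hα⟩ := exists_sheafFun_cycle hδ F hF.1 k hF.2
    obtain ⟨β, hβ⟩ := exists_sheafFun_cycle hδ G hG.1 k hG.2
    refine ⟨α - β, fun x hx => ?_, ?_⟩
    · show α x - β x = 0
      rw [hα, hβ]; simp [Cyc.sheafFun, hx]
    · rw [← hα, ← hβ]; rfl
  · rintro _ ⟨α, hα, rfl⟩
    exact ⟨_, (cls_pos_sub_neg hδ α hα).2.2⟩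

end Groth.Agent.CycLib28.K0
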