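import Groth.Agent.CycLib28.K0.Core
import Groth.Agent.CycLib28.PointSheaf
import Mathlib

/-!
# Families of modules supported on closures of points of dimension `k`
-/

set_option autoImplicit false
set_option linter.style.haveILetI false
set_option backward.isDefEq.respectTransparency.types false
universe u w

open CategoryTheory CategoryTheory.Limits AlgebraicGeometry Groth.Agent.Coherent Groth.Agent.ModStalk

namespace Groth.Agent.CycLib28.K0

variable {X : Scheme.{u}} {δ : X → ℤ} {a b k : ℤ}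

local notation "St" => DerSch.stalkFunctor X
local notation "cls" => Cyc.toK0CohQuot δ

theorem bijective_stalk_sigmaMap {J : Type w} [HasColimitsOfShape (Discrete J) X.Modules] (x : X)
    [PreservesColimitsOfShape (Discrete J) (DerSch.stalkFunctor X x)] {f g : J → X.Modules}
    (α : ∀ j, f j ⟶ g j) (h : ∀ j, Function.Bijective ((St x).map (α j))) :
    Function.Bijective ((St x).map (Limits.Sigma.map α)) := by
  haveI : ∀ j, IsIso ((St x).map (α j)) := fun j => (ConcreteCategory.isIso_iff_bijective _).2 (h j)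
  let hf := isColimitOfPreserves (St x) (colimit.isColimit (Discrete.functor f))
  let hg := isColimitOfPreserves (St x) (colimit.isColimit (Discrete.functor g))
  let c : Cocone (Discrete.functor g ⋙ St x) :=
    { pt := (St x).obj (∐ f)
      ι := Discrete.natTrans fun j => inv ((St x).map (α j.as)) ≫ (St x).map (Sigma.ι f j.as) }
  have hι : ∀ j, (St x).map (Sigma.ι g j) ≫ hg.desc c = inv ((St x).map (α j)) ≫ (St x).map (Sigma.ι f j) :=
    fun j => hg.fac c ⟨j⟩
  have hm : ∀ j, (St x).map (Sigma.ι f j) ≫ (St x).map (Limits.Sigma.map α) =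
      (St x).map (α j) ≫ (St x).map (Sigma.ι g j) := fun j => by
    rw [← Functor.map_comp, ← Functor.map_comp, Limits.Sigma.ι_map]
  haveI : IsIso ((St x).map (Limits.Sigma.map α)) := ⟨hg.desc c,
    hf.hom_ext fun ⟨j⟩ => by
      show (St x).map (Sigma.ι f j) ≫ _ = (St x).map (Sigma.ι f j) ≫ _
      erw [reassoc_of% (hm j), hι, IsIso.hom_inv_id_assoc, Category.comp_id],
    hg.hom_ext fun ⟨j⟩ => by
      show (St x).map (Sigma.ι g j) ≫ _ = (St x).map (Sigma.ι g j) ≫ _
      erw [reassoc_of% (hι j), hm, IsIso.inv_hom_id_assoc, Category.comp_id]⟩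
  exact ConcreteCategory.bijective_of_isIso _

theorem eq_of_mem_closure (hδ : Cyc.IsDimFun X δ) {ξ x : X} (hξ : δ ξ = k) (hx : x ∈ closure {ξ})
    (hk : k ≤ δ x) : x = ξ :=
  (eq_of_specializes_of_le hδ (specializes_iff_mem_closure.2 hx) (hξ.le.trans hk)).symm

theorem le_of_mem_closure (hδ : Cyc.IsDimFun X δ) {ξ x : X} (hx : x ∈ closure {ξ}) : δ x ≤ δ ξ := by
  by_cases h : x = ξ
  · rw [h]
  · exact (hδ ξ x (specializes_iff_mem_closure.2 hx) (Ne.symm h)).1.le

theorem bijective_of_subsingleton_stalks {E F : X.Modules} (φ : E ⟶ F) {x : X}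
    (hE : x ∉ CohB1.support E) (hF : x ∉ CohB1.support F) : Function.Bijective ((St x).map φ) := by
  haveI : Subsingleton ((St x).obj E) := not_not.1 hE
  haveI : Subsingleton ((St x).obj F) := not_not.1 hF
  exact ⟨fun _ _ _ => Subsingleton.elim _ _, fun _ => ⟨0, Subsingleton.elim _ _⟩⟩

/-! ### Locally finite families -/

theorem locallyFinite_of_points {I J : Type*} {p : I → X} (hp : LocallyFinite fun i => closure ({p i} : Set X))
    (q : J → I) (hq : ∀ i, (q ⁻¹' {i}).Finite) {f : J → X.Modules}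
    (hf : ∀ j, CohB1.support (f j) ⊆ closure {p (q j)}) : LocallyFinite fun j => CohB1.support (f j) := by
  intro x
  obtain ⟨N, hN, hfin⟩ := hp x
  refine ⟨N, hN, (hfin.biUnion fun i _ => hq i).subset ?_⟩
  rintro j ⟨z, hz, hzN⟩
  exact Set.mem_iUnion₂.2 ⟨q j, ⟨z, hf j hz, hzN⟩, rfl⟩

theorem locallyFinite_closure_points [IsLocallyNoetherian X] (hδ : Cyc.IsDimFun X δ) {F : X.Modules}
    (hF : Cyc.CohLe δ k F) {I : Type*} (p : I → X) (hinj : Function.Injective p)
    (hp : ∀ i, δ (p i) = k ∧ Nontrivial (F.presheaf.stalk (p i))) :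
    LocallyFinite fun i => closure ({p i} : Set X) := by
  intro x
  obtain ⟨U, hU, hxU, hfin⟩ := exists_open_finite_top_points hδ hF.1 k hF.2 x
  refine ⟨U, hU.mem_nhds hxU, ?_⟩
  refine ((hfin.image Subtype.val).preimage hinj.injOn).subset fun i hi => ?_
  exact ⟨⟨p i, hp i⟩, hi, rfl⟩

theorem cohLe_sigma [IsLocallyNoetherian X] (hδ : Cyc.IsDimFun X δ) {I : Type*} {J : Type u} {p : I → X}
    (hp : LocallyFinite fun i => closure ({p i} : Set X)) (hd : ∀ i, δ (p i) ≤ a) (q : J → I)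
    (hq : ∀ i, (q ⁻¹' {i}).Finite) (f : J → X.Modules) (hf : ∀ j, Coh.IsCoh (f j))
    (hs : ∀ j, CohB1.support (f j) ⊆ closure {p (q j)}) : Cyc.CohLe δ a (∐ f) :=
  cohLe_of_support (isCoh_sigma f hf (locallyFinite_of_points hp q hq hs)) (support_sigma_subset f) fun x hx => by
    obtain ⟨j, hj⟩ := Set.mem_iUnion.1 hx
    exact (le_of_mem_closure hδ (hs j hj)).trans (hd _)

theorem isCoh_sigmaFin [IsLocallyNoetherian X] {n : ℕ} (f : Fin n → X.Modules) (hf : ∀ j, Coh.IsCoh (f j)) :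
    Coh.IsCoh (∐ f) :=
  KZeroLib.isCoh_sigma_finite ⟨inferInstance⟩ f hf

theorem support_sigmaFin_subset {n : ℕ} (f : Fin n → X.Modules) {Z : Set X}
    (hf : ∀ j, CohB1.support (f j) ⊆ Z) : CohB1.support (∐ f) ⊆ Z :=
  (KZeroLib.support_sigma_subset f).trans (Set.iUnion_subset hf)

/-- coherent, with support in the closure of the point -/
def CohAt (ξ : X) (G : X.Modules) : Prop :=
  Coh.IsCoh G ∧ CohB1.support G ⊆ closure {ξ}

/-- the length of the stalk -/
noncomputable def len (ξ : X) (G : X.Modules) : ℕ∞ :=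
  Module.length (X.presheaf.stalk ξ) ((St ξ).obj G)

theorem len_congr {ξ : X} {E F : X.Modules} (φ : E ⟶ F) (h : Function.Bijective ((St ξ).map φ)) :
    len ξ E = len ξ F :=
  (LinearEquiv.ofBijective ((St ξ).map φ).hom h).length_eq

theorem len_add {ξ : X} {S : ShortComplex X.Modules} (hS : S.ShortExact) :
    len ξ S.X₂ = len ξ S.X₁ + len ξ S.X₃ := by
  have hex := hS.map_of_exact (St ξ)
  exact Module.length_eq_add_of_exact (S.map (St ξ)).f.hom (S.map (St ξ)).g.hom
    ((ModuleCat.mono_iff_injective _).mp hex.mono_f) ((ModuleCat.epi_iff_surjective _).mp hex.epi_g)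
    ((ShortComplex.ShortExact.moduleCat_exact_iff_function_exact _).mp hex.exact)

theorem notMem_of_len_zero {ξ : X} {G : X.Modules} (h : len ξ G = 0) : ξ ∉ CohB1.support G := by
  have : Subsingleton ((St ξ).obj G) := Module.length_eq_zero_iff.1 h
  exact not_not.2 this

theorem len_ne_top [IsLocallyNoetherian X] (hδ : Cyc.IsDimFun X δ) {F : X.Modules} (hF : Cyc.CohLe δ k F)
    {ξ : X} (hξ : δ ξ = k) : len ξ F ≠ ⊤ :=
  length_stalk_ne_top hF.1 ξ fun z hz hzx => by
    by_contra hne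
    exact absurd (hδ z ξ hzx hne).1 (by rw [hξ]; exact not_lt.mpr (hF.2 z hz))

/-- Modules of finite length over a Noetherian local ring are killed by a power of the maximal ideal. -/
theorem exists_pow_killed {R : Type u} [CommRing R] [IsLocalRing R] {M : Type u} [AddCommGroup M] [Module R M]
    (h : Module.length R M ≠ ⊤) :
    ∃ n : ℕ, ∀ r ∈ IsLocalRing.maximalIdeal R ^ n, ∀ v : M, r • v = 0 := by
  obtain ⟨hN, hA⟩ := isFiniteLength_iff_isNoetherian_isArtinian.1 (Module.length_ne_top_iff.1 h)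
  let N : ℕ →o (Submodule R M)ᵒᵈ :=
    ⟨fun n => OrderDual.toDual (IsLocalRing.maximalIdeal R ^ n • (⊤ : Submodule R M)),
      fun m n hmn => Submodule.smul_mono_left (Ideal.pow_le_pow_right hmn)⟩
  obtain ⟨n, hn⟩ := IsArtinian.monotone_stabilizes N
  refine ⟨n, fun r hr v => ?_⟩
  have h1 : IsLocalRing.maximalIdeal R ^ n • (⊤ : Submodule R M) =
      IsLocalRing.maximalIdeal R ^ (n + 1) • (⊤ : Submodule R M) :=
    OrderDual.toDual.injective (hn (n + 1) n.le_succ)
  have h2 : IsLocalRing.maximalIdeal R ^ n • (⊤ : Submodule R M) = ⊥ :=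
    Submodule.eq_bot_of_le_smul_of_le_jacobson_bot (IsLocalRing.maximalIdeal R) _ (IsNoetherian.noetherian _)
      (le_of_eq (h1.trans (by rw [pow_succ', Submodule.mul_smul])))
      (IsLocalRing.maximalIdeal_le_jacobson _)
  exact (Submodule.mem_bot R).1 (h2 ▸ Submodule.smul_mem_smul hr trivial)

variable [IsLocallyNoetherian X]

theorem isQCoh_image_skyMap {F : X.Modules} (hF : Coh.IsQCoh F) {ξ : X} {A : ModuleCat.{u} (X.presheaf.stalk ξ)}
    (g : (St ξ).obj F ⟶ A) (n : ℕ) (hA : ∀ r ∈ IsLocalRing.maximalIdeal (X.presheaf.stalk ξ) ^ n, ∀ v : A, r • v = 0) :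
    Coh.IsQCoh (Abelian.image (skyMap ξ g)) := by
  have := hF
  have := isQCoh_sky_of_killed ξ n hA
  exact isQCoh_image _

omit [IsLocallyNoetherian X] in
theorem support_sky_subset {ξ : X} (A : ModuleCat.{u} (X.presheaf.stalk ξ)) :
    CohB1.support ((sky ξ).obj A) ⊆ closure {ξ} := fun z hz => by
  by_contra h
  refine hz (subsingleton_of_forall_eq 0 fun u => ?_)
  obtain ⟨V, hzV, s, rfl⟩ := ((sky ξ).obj A).presheaf.exists_germ_eq u
  let W : X.Opens := V ⊓ ⟨(closure {ξ})ᶜ, isClosed_closure.isOpen_compl⟩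
  rw [← TopCat.Presheaf.germ_res_apply ((sky ξ).obj A).presheaf (homOfLE (inf_le_left : W ≤ V)) z ⟨hzV, h⟩]
  refine (congrArg _ (sval_ext (A := A) (U := W) fun hx => absurd (subset_closure (Set.mem_singleton ξ)) hx.2)).trans (map_zero _)

/-- The part of a module at a point of finite length. -/
theorem exists_part {F : X.Modules} (hF : Coh.IsCoh F) (ξ : X) (hlen : len ξ F ≠ ⊤) :
    ∃ (G : X.Modules) (q : F ⟶ G), CohAt ξ G ∧ Function.Bijective ((St ξ).map q) := by
  obtain ⟨n, hn⟩ := exists_pow_killed hlen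
  let c := skyMap ξ (𝟙 ((St ξ).obj F))
  have hI := isQCoh_image_skyMap hF.1 (𝟙 ((St ξ).obj F)) n hn
  refine ⟨Abelian.image c, Abelian.factorThruImage c,
    ⟨AssSch12.isCoh_of_epi F (Abelian.factorThruImage c) hI (locallyFinGen_of_isFT F hF.2),
      (support_subset_of_mono (Abelian.image.ι c)).trans (support_sky_subset _)⟩, ?_, ?_⟩
  · intro v v' h
    refine (stalk_skyMap_eq_iff ξ (𝟙 ((St ξ).obj F)) (𝟙 _) v v').1 ?_
    have := congrArg ((St ξ).map (Abelian.image.ι c)) h
    rwa [stalk_comp_apply, stalk_comp_apply, Abelian.image.fac] at this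
  · exact (ModuleCat.epi_iff_surjective _).1 inferInstance

/-- Splitting off a module of length one. -/
theorem exists_step (ξ : X) {G : X.Modules} (hG : CohAt ξ G) {n : ℕ} (hn : len ξ G = n + 1) :
    ∃ (G₁ P : X.Modules) (i : G₁ ⟶ G) (p : G ⟶ P) (w : i ≫ p = 0), (ShortComplex.mk i p w).ShortExact ∧
      CohAt ξ G₁ ∧ CohAt ξ P ∧ len ξ G₁ = n ∧ len ξ P = 1 := by
  have hne : Module.length (X.presheaf.stalk ξ) ((St ξ).obj G) ≠ ⊤ := by
    rw [← len, hn]; exact ENat.coe_ne_top (n + 1)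
  obtain ⟨hN, -⟩ := isFiniteLength_iff_isNoetherian_isArtinian.1 (Module.length_ne_top_iff.1 hne)
  have hnt : Nontrivial ((St ξ).obj G) := not_subsingleton_iff_nontrivial.1 fun h => by
    have h0 : len ξ G = 0 := Module.length_eq_zero_iff.2 h
    rw [hn] at h0
    simp at h0
  obtain ⟨N, hNmax⟩ := IsCoatomic.exists_coatom (α := Submodule (X.presheaf.stalk ξ) ((St ξ).obj G))
  have hsimp : IsSimpleModule (X.presheaf.stalk ξ) ((St ξ).obj G ⧸ N) := isSimpleModule_iff_isCoatom.2 hNmax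
  obtain ⟨I, hI, ⟨e⟩⟩ := isSimpleModule_iff_quot_maximal.1 hsimp
  have hkA : ∀ r ∈ IsLocalRing.maximalIdeal (X.presheaf.stalk ξ) ^ 1,
      ∀ v : ((St ξ).obj G ⧸ N), r • v = 0 := fun r hr v => by
    rw [pow_one, ← IsLocalRing.eq_maximalIdeal hI] at hr
    refine e.injective ?_
    rw [map_smul, map_zero]
    obtain ⟨c, hc⟩ := Ideal.Quotient.mk_surjective (e v)
    rw [← hc]
    exact Ideal.Quotient.eq_zero_iff_mem.2 (I.mul_mem_right c hr)
  let g : (St ξ).obj G ⟶ ModuleCat.of _ ((St ξ).obj G ⧸ N) := ModuleCat.ofHom N.mkQ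
  obtain ⟨G₁, P, i, p, w, hS, h₁, h₃, hi, -, hp, hp0⟩ := exists_peel hG.1 g hkA
  have hP : len ξ P = 1 := by
    have e₁ : ((St ξ).obj G ⧸ N) ≃ₗ[X.presheaf.stalk ξ] (St ξ).obj P :=
      (Submodule.quotEquivOfEq _ _ (SetLike.ext fun v =>
        ((hp0 v).trans (Submodule.Quotient.mk_eq_zero N)).symm)).trans
        (LinearMap.quotKerEquivOfSurjective ((St ξ).map p).hom hp)
    rw [len, ← e₁.length_eq]
    exact Module.length_eq_one_iff.2 hsimp
  have : Mono i := hS.mono_f
  have : Epi p := hS.epi_g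
  refine ⟨G₁, P, i, p, w, hS, ⟨h₁, (support_subset_of_mono i).trans hG.2⟩,
    ⟨h₃, (support_subset_of_epi p).trans hG.2⟩, ?_, hP⟩
  have h2 := len_add (ξ := ξ) hS
  rw [show len ξ (ShortComplex.mk i p w).X₂ = len ξ G from rfl, hn,
    show len ξ (ShortComplex.mk i p w).X₃ = len ξ P from rfl, hP] at h2
  exact (WithTop.add_right_cancel ENat.one_ne_top h2).symm

/-- Two modules of length one at a point map to a common one. -/
theorem exists_common (ξ : X) {P Q : X.Modules} (hP : CohAt ξ P) (hQ : CohAt ξ Q) (h₁ : len ξ P = 1)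
    (h₂ : len ξ Q = 1) :
    ∃ (N : X.Modules) (α : P ⟶ N) (β : Q ⟶ N), CohAt ξ N ∧ Function.Bijective ((St ξ).map α) ∧
      Function.Bijective ((St ξ).map β) := by
  obtain ⟨I, hI, ⟨e₁⟩⟩ := isSimpleModule_iff_quot_maximal.1 (Module.length_eq_one_iff.1 h₁)
  obtain ⟨I', hI', ⟨e₂⟩⟩ := isSimpleModule_iff_quot_maximal.1 (Module.length_eq_one_iff.1 h₂)
  obtain rfl : I' = I := (IsLocalRing.eq_maximalIdeal hI').trans (IsLocalRing.eq_maximalIdeal hI).symm
  have hk : ∀ r ∈ IsLocalRing.maximalIdeal (X.presheaf.stalk ξ) ^ 1,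
      ∀ v : (St ξ).obj Q, r • v = 0 := fun r hr v => by
    rw [pow_one, ← IsLocalRing.eq_maximalIdeal hI] at hr
    refine e₂.injective ?_
    rw [map_smul, map_zero]
    obtain ⟨c, hc⟩ := Ideal.Quotient.mk_surjective (e₂ v)
    rw [← hc]
    exact Ideal.Quotient.eq_zero_iff_mem.2 (I'.mul_mem_right c hr)
  let g : (St ξ).obj P ⟶ (St ξ).obj Q := ModuleCat.ofHom (e₁.trans e₂.symm).toLinearMap
  let d : P ⊞ Q ⟶ (sky ξ).obj ((St ξ).obj Q) := biprod.desc (skyMap ξ g) (skyMap ξ (𝟙 _))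
  have hPQ : Coh.IsCoh (P ⊞ Q) :=
    isCoh_X₂ (ShortComplex.Splitting.ofHasBinaryBiproduct P Q).shortExact hP.1 hQ.1
  have := hPQ.1
  have := isQCoh_sky_of_killed ξ 1 hk
  have hI2 : Coh.IsQCoh (Abelian.image d) := isQCoh_image d
  let π := Abelian.factorThruImage d
  let α : P ⟶ Abelian.image d := biprod.inl ≫ π
  let β : Q ⟶ Abelian.image d := biprod.inr ≫ π
  have hα : α ≫ Abelian.image.ι d = skyMap ξ g := by
    rw [Category.assoc, Abelian.image.fac]; exact biprod.inl_desc _ _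
  have hβ : β ≫ Abelian.image.ι d = skyMap ξ (𝟙 _) := by
    rw [Category.assoc, Abelian.image.fac]; exact biprod.inr_desc _ _
  have hm : Function.Injective ((St ξ).map (Abelian.image.ι d)) :=
    (ModuleCat.mono_iff_injective _).1 inferInstance
  have key : ∀ (v : (St ξ).obj P) (w : (St ξ).obj Q), (St ξ).map α v = (St ξ).map β w ↔ g v = w := fun v w => by
    rw [← hm.eq_iff]
    erw [stalk_comp_apply, stalk_comp_apply]
    rw [hα, hβ]
    exact stalk_skyMap_eq_iff ξ g (𝟙 ((St ξ).obj Q)) v w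
  have hβi : Function.Injective ((St ξ).map β) := fun w w' h => by
    have h1 := (key ((e₁.trans e₂.symm).symm w) w).2 ((e₁.trans e₂.symm).apply_symm_apply w)
    rw [h] at h1
    exact ((e₁.trans e₂.symm).apply_symm_apply w).symm.trans ((key _ _).1 h1)
  have hαi : Function.Injective ((St ξ).map α) := fun v v' h => by
    have h1 := (key v (g v)).2 rfl
    rw [h] at h1
    exact (e₁.trans e₂.symm).injective ((key _ _).1 h1).symm
  have hsurj : ∀ u, ∃ v w, u = (St ξ).map α v + (St ξ).map β w := fun u => by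
    obtain ⟨z, rfl⟩ := (ModuleCat.epi_iff_surjective ((St ξ).map π)).1 inferInstance u
    refine ⟨(St ξ).map biprod.fst z, (St ξ).map biprod.snd z, ?_⟩
    rw [stalk_comp_apply, stalk_comp_apply, ← stalk_add_apply]
    exact congrArg (fun f => (St ξ).map f z) (by
      simp only [α, β, ← Category.assoc]
      rw [← Preadditive.add_comp, biprod.total, Category.id_comp])
  refine ⟨Abelian.image d, α, β,
    ⟨AssSch12.isCoh_of_epi _ π hI2 (locallyFinGen_of_isFT _ hPQ.2),
      (support_subset_of_mono (Abelian.image.ι d)).trans (support_sky_subset _)⟩,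
    ⟨hαi, fun u => ?_⟩, ⟨hβi, fun u => ?_⟩⟩
  · obtain ⟨v, w, rfl⟩ := hsurj u
    refine ⟨v + (e₁.trans e₂.symm).symm w, ?_⟩
    rw [map_add, (key _ w).2 ((e₁.trans e₂.symm).apply_symm_apply w)]
  · obtain ⟨v, w, rfl⟩ := hsurj u
    exact ⟨g v + w, by rw [map_add, ← (key v (g v)).2 rfl]⟩

theorem cohAt_pointSheaf (ξ : X) : CohAt ξ (InterSheaf.pointSheaf ξ) :=
  ⟨InterSheaf.isCoh_pointSheaf ξ, fun x hx =>
    specializes_iff_mem_closure.1 (InterSheaf.specializes_of_nontrivial_pointSheaf ξ x (mem_support_iff.1 hx))⟩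

theorem len_pointSheaf (hδ : Cyc.IsDimFun X δ) (ξ : X) : len ξ (InterSheaf.pointSheaf ξ) = 1 := by
  have h := congrFun (InterSheaf.sheafFun_pointSheaf hδ (ξ := ξ) rfl) ξ
  rw [Cyc.sheafFun, if_pos rfl, Set.indicator_of_mem (Set.mem_singleton _), Pi.one_apply] at h
  have h' : (len ξ (InterSheaf.pointSheaf ξ)).toNat = 1 := by
    exact_mod_cast h
  exact ((ENat.toNat_eq_iff one_ne_zero).1 h').trans rfl

end Groth.Agent.CycLib28.K0
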