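import Groth.Prelude.Def_KZero
import Mathlib

/-!
# Heller's criterion for equality in `K₀` of a subcategory closed under sums
-/

set_option autoImplicit false
set_option linter.style.haveILetI false
universe v w

open CategoryTheory CategoryTheory.Limits
open scoped ZeroObject

namespace Groth.Agent.CycLib28.K0

variable {C : Type w} [Category.{v} C] [Abelian C]

/-- `A` and `B` are the middle terms of short exact sequences with the same ends, up to a common summand. -/
def Heller (P : ObjectProperty C) (A B : C) : Prop :=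
  ∃ (X L R : C) (i : L ⟶ A ⊞ X) (p : A ⊞ X ⟶ R) (i' : L ⟶ B ⊞ X) (p' : B ⊞ X ⟶ R) (w : i ≫ p = 0)
    (w' : i' ≫ p' = 0), P X ∧ P L ∧ P R ∧
      (ShortComplex.mk i p w).ShortExact ∧ (ShortComplex.mk i' p' w').ShortExact

/-- short exact sequences with fixed ends and prescribed middle term -/
def Mid (L M R : C) : Prop :=
  ∃ (i : L ⟶ M) (p : M ⟶ R) (w : i ≫ p = 0), (ShortComplex.mk i p w).ShortExact

theorem Mid.iso {L M M' R : C} (h : Mid L M R) (e : M ≅ M') : Mid L M' R := by
  obtain ⟨i, p, w, hS⟩ := h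
  refine ⟨i ≫ e.hom, e.inv ≫ p, by simp [w], ShortComplex.shortExact_of_iso ?_ hS⟩
  exact ShortComplex.isoMk (Iso.refl _) e (Iso.refl _) (by simp) (by simp)

theorem Mid.split (L R : C) : Mid L (L ⊞ R) R :=
  ⟨biprod.inl, biprod.snd, by simp, (ShortComplex.Splitting.ofHasBinaryBiproduct L R).shortExact⟩

theorem Mid.add {L M R L' M' R' : C} (h : Mid L M R) (h' : Mid L' M' R') :
    Mid (L ⊞ L') (M ⊞ M') (R ⊞ R') := by
  obtain ⟨i, p, w, hS⟩ := h
  obtain ⟨i', p', w', hS'⟩ := h'
  have : Mono i := hS.mono_f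
  have : Mono i' := hS'.mono_f
  have : Epi p := hS.epi_g
  have : Epi p' := hS'.epi_g
  have w0 : biprod.map i i' ≫ biprod.map p p' = 0 := by
    ext <;> simp [w, w']
  haveI : Epi (biprod.map p p') := ⟨fun g g' h => by
    ext
    · rw [← cancel_epi p]
      have := congrArg (biprod.inl ≫ ·) h
      simpa using this
    · rw [← cancel_epi p']
      have := congrArg (biprod.inr ≫ ·) h
      simpa using this⟩
  haveI : Mono (biprod.map i i') := ⟨fun g g' h => by
    ext
    · rw [← cancel_mono i]
      have := congrArg (· ≫ biprod.fst) h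
      simpa using this
    · rw [← cancel_mono i']
      have := congrArg (· ≫ biprod.snd) h
      simpa using this⟩
  refine ⟨_, _, w0, ShortComplex.ShortExact.mk' ?_ inferInstance inferInstance⟩
  refine ShortComplex.exact_of_f_is_kernel _ ?_
  refine KernelFork.IsLimit.ofι _ _
    (fun {T} k hk => biprod.lift
      (hS.fIsKernel.lift (KernelFork.ofι (k ≫ biprod.fst) (by
        have := congrArg (· ≫ biprod.fst) hk; simpa using this)))
      (hS'.fIsKernel.lift (KernelFork.ofι (k ≫ biprod.snd) (by
        have := congrArg (· ≫ biprod.snd) hk; simpa using this))))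
    (fun {T} k hk => ?_) (fun {T} k hk m hm => ?_)
  · ext
    · simp only [Category.assoc, biprod.map_fst, biprod.lift_fst_assoc]
      exact Fork.IsLimit.lift_ι hS.fIsKernel
    · simp only [Category.assoc, biprod.map_snd, biprod.lift_snd_assoc]
      exact Fork.IsLimit.lift_ι hS'.fIsKernel
  · ext
    · rw [← cancel_mono i, Category.assoc, ← biprod.map_fst i i', ← Category.assoc]
      erw [hm]
      rw [biprod.lift_fst]
      exact (hS.fIsKernel.fac (KernelFork.ofι (k ≫ biprod.fst) _) WalkingParallelPair.zero).symm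
    · rw [← cancel_mono i', Category.assoc, ← biprod.map_snd i i', ← Category.assoc]
      erw [hm]
      rw [biprod.lift_snd]
      exact (hS'.fIsKernel.fac (KernelFork.ofι (k ≫ biprod.snd) _) WalkingParallelPair.zero).symm

/-- rearranging a sum of four -/
noncomputable def interchange (A B E F : C) : (A ⊞ B) ⊞ (E ⊞ F) ≅ (A ⊞ E) ⊞ (B ⊞ F) where
  hom := biprod.lift (biprod.map biprod.fst biprod.fst) (biprod.map biprod.snd biprod.snd)
  inv := biprod.lift (biprod.map biprod.fst biprod.fst) (biprod.map biprod.snd biprod.snd)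

variable {P : ObjectProperty C}

theorem heller_iff {A B : C} :
    Heller P A B ↔ ∃ X L R : C, P X ∧ P L ∧ P R ∧ Mid L (A ⊞ X) R ∧ Mid L (B ⊞ X) R := by
  constructor
  · rintro ⟨X, L, R, i, p, i', p', w, w', hX, hL, hR, h, h'⟩
    exact ⟨X, L, R, hX, hL, hR, ⟨i, p, w, h⟩, ⟨i', p', w', h'⟩⟩
  · rintro ⟨X, L, R, hX, hL, hR, ⟨i, p, w, h⟩, ⟨i', p', w', h'⟩⟩
    exact ⟨X, L, R, i, p, i', p', w, w', hX, hL, hR, h, h'⟩

variable (hP0 : P (0 : C)) (hadd : ∀ {A B : C}, P A → P B → P (A ⊞ B))

include hP0 hadd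

theorem heller_of_iso {A B : C} (e : A ≅ B) (hA : P A) : Heller P A B :=
  heller_iff.2 ⟨0, A, 0, hP0, hA, hP0, Mid.split A 0, (Mid.split A 0).iso (biprod.mapIso e (Iso.refl _))⟩

omit hP0 hadd in
theorem heller_symm {A B : C} (h : Heller P A B) : Heller P B A := by
  obtain ⟨X, L, R, hX, hL, hR, h, h'⟩ := heller_iff.1 h
  exact heller_iff.2 ⟨X, L, R, hX, hL, hR, h', h⟩

omit hP0 in
theorem heller_add {A B A' B' : C} (h : Heller P A B) (h' : Heller P A' B') : Heller P (A ⊞ A') (B ⊞ B') := by
  obtain ⟨X, L, R, hX, hL, hR, m, n⟩ := heller_iff.1 h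
  obtain ⟨X', L', R', hX', hL', hR', m', n'⟩ := heller_iff.1 h'
  exact heller_iff.2 ⟨X ⊞ X', L ⊞ L', R ⊞ R', hadd hX hX', hadd hL hL', hadd hR hR',
    (m.add m').iso (interchange _ _ _ _), (n.add n').iso (interchange _ _ _ _)⟩

omit hP0 in
theorem heller_cancel {A B E : C} (hE : P E) (h : Heller P (A ⊞ E) (B ⊞ E)) : Heller P A B := by
  obtain ⟨X, L, R, hX, hL, hR, m, n⟩ := heller_iff.1 h
  exact heller_iff.2 ⟨E ⊞ X, L, R, hadd hE hX, hL, hR, m.iso (biprod.associator _ _ _), n.iso (biprod.associator _ _ _)⟩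

theorem heller_of_iso_left {A A' B : C} (e : A ≅ A') (h : Heller P A B) : Heller P A' B := by
  obtain ⟨X, L, R, hX, hL, hR, m, n⟩ := heller_iff.1 h
  exact heller_iff.2 ⟨X, L, R, hX, hL, hR, m.iso (biprod.mapIso e (Iso.refl _)), n⟩

theorem heller_trans {A B E : C} (hB : P B) (h : Heller P A B) (h' : Heller P B E) : Heller P A E := by
  refine heller_cancel hadd hB ?_
  have h'' := heller_add hadd h h'
  exact heller_symm (heller_of_iso_left hP0 hadd (biprod.braiding B E) (heller_symm h''))

theorem heller_of_shortExact {S : ShortComplex C} (hS : S.ShortExact) (h₁ : P S.X₁) (h₃ : P S.X₃) :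
    Heller P S.X₂ (S.X₁ ⊞ S.X₃) := by
  refine heller_iff.2 ⟨0, S.X₁, S.X₃, hP0, h₁, h₃, ?_, ?_⟩
  · exact Mid.iso ⟨S.f, S.g, S.zero, hS⟩ (isoBiprodZero (isZero_zero C))
  · exact Mid.iso (Mid.split _ _) (isoBiprodZero (isZero_zero C))

/-- Heller's criterion. -/
theorem heller_of_clSub_eq {A B : C} (hA : P A) (hB : P B) (h : KZero.clSub P A = KZero.clSub P B) :
    Heller P A B := by
  letI s : Setoid (Subtype P) :=
    { r := fun A B => Heller P A.1 B.1
      iseqv := ⟨fun A => heller_of_iso hP0 hadd (Iso.refl _) A.2, fun h => heller_symm h,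
        fun {A B E} h h' => heller_trans hP0 hadd B.2 h h'⟩ }
  let M := Quotient s
  let addM : M → M → M := Quotient.map₂ (fun A B => (⟨A.1 ⊞ B.1, hadd A.2 B.2⟩ : Subtype P))
    fun A A' h B B' h' => heller_add hadd h h'
  letI : Add M := ⟨addM⟩
  letI : Zero M := ⟨Quotient.mk s ⟨0, hP0⟩⟩
  letI instM : AddCommMonoid M :=
    { add := addM
      zero := Quotient.mk s ⟨0, hP0⟩
      add_assoc := fun x y z => Quotient.inductionOn₃ x y z fun A B E => Quotient.sound
        (heller_of_iso hP0 hadd (biprod.associator _ _ _) (hadd (hadd A.2 B.2) E.2))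
      zero_add := fun x => Quotient.inductionOn x fun A => Quotient.sound
        (heller_of_iso hP0 hadd (isoZeroBiprod (isZero_zero C)).symm (hadd hP0 A.2))
      add_zero := fun x => Quotient.inductionOn x fun A => Quotient.sound
        (heller_of_iso hP0 hadd (isoBiprodZero (isZero_zero C)).symm (hadd A.2 hP0))
      add_comm := fun x y => Quotient.inductionOn₂ x y fun A B => Quotient.sound
        (heller_of_iso hP0 hadd (biprod.braiding _ _) (hadd A.2 B.2))
      nsmul := nsmulRec }
  haveI : IsRightCancelAdd M := ⟨fun y x z => by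
    induction x using Quotient.inductionOn with | _ A =>
    induction y using Quotient.inductionOn with | _ B =>
    induction z using Quotient.inductionOn with | _ E =>
    exact fun he => Quotient.sound (heller_cancel hadd B.2 (Quotient.exact he))⟩
  haveI : IsCancelAdd M := AddCommMagma.IsRightCancelAdd.toIsCancelAdd M
  let f : KZero.K0sub P →+ Algebra.GrothendieckAddGroup M :=
    QuotientAddGroup.lift (KZero.relSub P)
      (FreeAbelianGroup.lift fun A => Algebra.GrothendieckAddGroup.of (Quotient.mk s A)) (by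
        refine (AddSubgroup.closure_le _).2 ?_
        rintro x ⟨S, h₁, h₂, h₃, hS, rfl⟩
        rw [SetLike.mem_coe, AddMonoidHom.mem_ker, map_sub, map_sub, FreeAbelianGroup.lift_apply_of,
          FreeAbelianGroup.lift_apply_of, FreeAbelianGroup.lift_apply_of, sub_sub, sub_eq_zero, ← map_add]
        refine congrArg _ (Quotient.sound ?_)
        exact heller_of_shortExact hP0 hadd hS h₁ h₃)
  have hf : ∀ (E : C) (hE : P E), f (KZero.clSub P E) =
      Algebra.GrothendieckAddGroup.of (Quotient.mk s ⟨E, hE⟩) := fun E hE => by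
    rw [KZero.clSub, dif_pos hE]
    exact FreeAbelianGroup.lift_apply_of _ _
  have he := congrArg f h
  rw [hf A hA, hf B hB] at he
  exact Quotient.exact (Algebra.GrothendieckAddGroup.of_injective he)

end Groth.Agent.CycLib28.K0
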