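import Mathlib

/-!
# A periodic complex attached to two short exact sequences with the same ends
-/

set_option autoImplicit false
set_option linter.style.haveILetI false
universe v w

open CategoryTheory CategoryTheory.Limits
open scoped ZeroObject

namespace Groth.Agent.CycLib28.K0

variable {C : Type w} [Category.{v} C] [Abelian C]

/-- the sum of two short complexes -/
noncomputable def sumSC (S T : ShortComplex C) : ShortComplex C :=
  ShortComplex.mk (biprod.map S.f T.f) (biprod.map S.g T.g) (by ext <;> simp)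

/-- the inclusion -/
noncomputable def sumSC.inl (S T : ShortComplex C) : S ⟶ sumSC S T where
  τ₁ := biprod.inl
  τ₂ := biprod.inl
  τ₃ := biprod.inl
  comm₁₂ := by simp [sumSC]
  comm₂₃ := by simp [sumSC]

/-- the inclusion -/
noncomputable def sumSC.inr (S T : ShortComplex C) : T ⟶ sumSC S T where
  τ₁ := biprod.inr
  τ₂ := biprod.inr
  τ₃ := biprod.inr
  comm₁₂ := by simp [sumSC]
  comm₂₃ := by simp [sumSC]

/-- the projection -/
noncomputable def sumSC.fst (S T : ShortComplex C) : sumSC S T ⟶ S where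
  τ₁ := biprod.fst
  τ₂ := biprod.fst
  τ₃ := biprod.fst
  comm₁₂ := by simp [sumSC]
  comm₂₃ := by simp [sumSC]

/-- the projection -/
noncomputable def sumSC.snd (S T : ShortComplex C) : sumSC S T ⟶ T where
  τ₁ := biprod.snd
  τ₂ := biprod.snd
  τ₃ := biprod.snd
  comm₁₂ := by simp [sumSC]
  comm₂₃ := by simp [sumSC]

theorem sumSC_total (S T : ShortComplex C) :
    𝟙 (sumSC S T) = sumSC.fst S T ≫ sumSC.inl S T + sumSC.snd S T ≫ sumSC.inr S T := by
  ext <;> exact biprod.total.symm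

theorem sumSC_inl_fst (S T : ShortComplex C) : sumSC.inl S T ≫ sumSC.fst S T = 𝟙 S := by
  ext <;> exact biprod.inl_fst

theorem exact_sumSC {S T : ShortComplex C} (hS : S.Exact) (hT : T.Exact) : (sumSC S T).Exact := by
  rw [ShortComplex.exact_iff_isZero_homology] at *
  rw [IsZero.iff_id_eq_zero, ← ShortComplex.homologyMap_id]
  have : 𝟙 (sumSC S T) = sumSC.fst S T ≫ sumSC.inl S T + sumSC.snd S T ≫ sumSC.inr S T := by
    exact sumSC_total S T
  rw [this, ShortComplex.homologyMap_add, ShortComplex.homologyMap_comp, ShortComplex.homologyMap_comp,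
    hS.eq_of_src (ShortComplex.homologyMap (sumSC.inl S T)) 0, hT.eq_of_src (ShortComplex.homologyMap (sumSC.inr S T)) 0,
    comp_zero, comp_zero, add_zero]

theorem nonempty_homology_sumSC {S T : ShortComplex C} (hT : T.Exact) :
    Nonempty ((sumSC S T).homology ≅ S.homology) := by
  rw [ShortComplex.exact_iff_isZero_homology] at hT
  refine ⟨⟨ShortComplex.homologyMap (sumSC.fst S T), ShortComplex.homologyMap (sumSC.inl S T), ?_, ?_⟩⟩
  · have : 𝟙 (sumSC S T) = sumSC.fst S T ≫ sumSC.inl S T + sumSC.snd S T ≫ sumSC.inr S T := by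
      exact sumSC_total S T
    rw [← ShortComplex.homologyMap_comp, ← ShortComplex.homologyMap_id, this, ShortComplex.homologyMap_add,
      ShortComplex.homologyMap_comp (sumSC.snd S T), hT.eq_of_src (ShortComplex.homologyMap (sumSC.inr S T)) 0,
      comp_zero, add_zero]
  · rw [← ShortComplex.homologyMap_comp, ← ShortComplex.homologyMap_id]
    rw [sumSC_inl_fst]

/-- the homology of a complex with zero maps -/
theorem nonempty_homology_zero (A B E : C) :
    Nonempty ((ShortComplex.mk (0 : A ⟶ B) (0 : B ⟶ E) zero_comp).homology ≅ B) :=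
  ⟨(ShortComplex.LeftHomologyData.ofZeros (ShortComplex.mk (0 : A ⟶ B) (0 : B ⟶ E) zero_comp) rfl rfl).homologyIso⟩

/-- Two short exact sequences with the same ends give a periodic complex. -/
theorem exists_periodic {A B X L R : C} (i : L ⟶ A ⊞ X) (p : A ⊞ X ⟶ R) (i' : L ⟶ B ⊞ X) (p' : B ⊞ X ⟶ R)
    (w : i ≫ p = 0) (w' : i' ≫ p' = 0) (hS : (ShortComplex.mk i p w).ShortExact)
    (hS' : (ShortComplex.mk i' p' w').ShortExact) :
    ∃ (φ ψ : A ⊞ ((B ⊞ X) ⊞ (L ⊞ R)) ⟶ A ⊞ ((B ⊞ X) ⊞ (L ⊞ R))) (h₁ : φ ≫ ψ = 0) (h₂ : ψ ≫ φ = 0),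
      Nonempty ((ShortComplex.mk φ ψ h₁).homology ≅ B) ∧ Nonempty ((ShortComplex.mk ψ φ h₂).homology ≅ A) := by
  have hi : Mono i := hS.mono_f
  have hi' : Mono i' := hS'.mono_f
  have hp : Epi p := hS.epi_g
  have hp' : Epi p' := hS'.epi_g
  let U := A ⊞ ((B ⊞ X) ⊞ (L ⊞ R))
  let V := B ⊞ (R ⊞ ((A ⊞ X) ⊞ L))
  let d : U ⟶ V := biprod.map 0 (biprod.map p' (biprod.map i 0))
  let π : V ⟶ B ⊞ (L ⊞ (R ⊞ (A ⊞ X))) := biprod.lift biprod.fst
    (biprod.lift (biprod.snd ≫ biprod.snd ≫ biprod.snd)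
      (biprod.lift (biprod.snd ≫ biprod.fst) (biprod.snd ≫ biprod.snd ≫ biprod.fst)))
  let π' : B ⊞ (L ⊞ (R ⊞ (A ⊞ X))) ⟶ V := biprod.lift biprod.fst
    (biprod.lift (biprod.snd ≫ biprod.snd ≫ biprod.fst)
      (biprod.lift (biprod.snd ≫ biprod.snd ≫ biprod.snd) (biprod.snd ≫ biprod.fst)))
  let eπ : V ≅ B ⊞ (L ⊞ (R ⊞ (A ⊞ X))) := ⟨π, π', by ext <;> simp [π, π', V], by ext <;> simp [π, π', V]⟩
  let d' : V ⟶ U := π ≫ biprod.map 0 (biprod.map i' (biprod.map 0 p))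
  have hdd' : d ≫ d' = 0 := by
    ext <;> simp [d, d', π, U, V, w, w']
  have hd'd : d' ≫ d = 0 := by
    ext <;> simp [d, d', π, U, V, w, w']
  -- homology at `U`
  have h1 : Nonempty ((ShortComplex.mk d' d hd'd).homology ≅ A) := by
    let T₂ := ShortComplex.mk i' p' w'
    let T₃ := ShortComplex.mk (0 : R ⟶ L) i zero_comp
    let T₄ := ShortComplex.mk p (0 : R ⟶ L) comp_zero
    have h3 : T₃.Exact := (ShortComplex.exact_iff_mono _ rfl).2 (inferInstanceAs (Mono i))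
    have h4 : T₄.Exact := (ShortComplex.exact_iff_epi _ rfl).2 (inferInstanceAs (Epi p))
    obtain ⟨e⟩ := nonempty_homology_sumSC (S := ShortComplex.mk (0 : B ⟶ A) (0 : A ⟶ B) zero_comp)
      (T := sumSC T₂ (sumSC T₃ T₄)) (exact_sumSC hS'.exact (exact_sumSC h3 h4))
    obtain ⟨e0⟩ := nonempty_homology_zero B A B
    let S1 := sumSC (ShortComplex.mk (0 : B ⟶ A) (0 : A ⟶ B) zero_comp) (sumSC T₂ (sumSC T₃ T₄))
    let es : ShortComplex.mk d' d hd'd ≅ S1 :=
      ShortComplex.isoMk eπ (Iso.refl U) (Iso.refl V)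
        (by simp [S1, T₂, T₃, T₄, sumSC, d', eπ, U]) (by simp [S1, T₂, T₃, T₄, sumSC, d, U, V])
    exact ⟨ShortComplex.homologyMapIso es ≪≫ e ≪≫ e0⟩
  -- homology at `V`
  have h2 : Nonempty ((ShortComplex.mk d d' hdd').homology ≅ B) := by
    let T₂ := ShortComplex.mk p' (0 : R ⟶ L) comp_zero
    let T₃ := ShortComplex.mk i p w
    let T₄ := ShortComplex.mk (0 : R ⟶ L) i' zero_comp
    have h3 : T₂.Exact := (ShortComplex.exact_iff_epi _ rfl).2 (inferInstanceAs (Epi p'))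
    have h4 : T₄.Exact := (ShortComplex.exact_iff_mono _ rfl).2 (inferInstanceAs (Mono i'))
    obtain ⟨e⟩ := nonempty_homology_sumSC (S := ShortComplex.mk (0 : A ⟶ B) (0 : B ⟶ A) zero_comp)
      (T := sumSC T₂ (sumSC T₃ T₄)) (exact_sumSC h3 (exact_sumSC hS.exact h4))
    obtain ⟨e0⟩ := nonempty_homology_zero A B A
    let ρ : U ⟶ A ⊞ (L ⊞ (R ⊞ (B ⊞ X))) := biprod.lift biprod.fst
      (biprod.lift (biprod.snd ≫ biprod.snd ≫ biprod.fst)
        (biprod.lift (biprod.snd ≫ biprod.snd ≫ biprod.snd) (biprod.snd ≫ biprod.fst)))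
    let ρ' : A ⊞ (L ⊞ (R ⊞ (B ⊞ X))) ⟶ U := biprod.lift biprod.fst
      (biprod.lift (biprod.snd ≫ biprod.snd ≫ biprod.snd)
        (biprod.lift (biprod.snd ≫ biprod.fst) (biprod.snd ≫ biprod.snd ≫ biprod.fst)))
    let eρ : U ≅ A ⊞ (L ⊞ (R ⊞ (B ⊞ X))) := ⟨ρ, ρ', by ext <;> simp [ρ, ρ', U], by ext <;> simp [ρ, ρ', U]⟩
    let S2 := sumSC (ShortComplex.mk (0 : A ⟶ B) (0 : B ⟶ A) zero_comp) (sumSC T₂ (sumSC T₃ T₄))
    let es : ShortComplex.mk d d' hdd' ≅ S2 :=
      ShortComplex.isoMk (Iso.refl U) (Iso.refl V) eρ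
        (by simp [S2, T₂, T₃, T₄, sumSC, d, U, V])
        (by dsimp [S2, T₂, T₃, T₄, sumSC, d', π, eρ, ρ, U, V]; ext <;> simp)
    exact ⟨ShortComplex.homologyMapIso es ≪≫ e ≪≫ e0⟩
  -- rearrangement
  let θh : V ⟶ U := biprod.lift (biprod.snd ≫ biprod.snd ≫ biprod.fst ≫ biprod.fst)
    (biprod.lift (biprod.lift biprod.fst (biprod.snd ≫ biprod.snd ≫ biprod.fst ≫ biprod.snd))
      (biprod.lift (biprod.snd ≫ biprod.snd ≫ biprod.snd) (biprod.snd ≫ biprod.fst)))
  let θi : U ⟶ V := biprod.lift (biprod.snd ≫ biprod.fst ≫ biprod.fst)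
    (biprod.lift (biprod.snd ≫ biprod.snd ≫ biprod.snd)
      (biprod.lift (biprod.lift biprod.fst (biprod.snd ≫ biprod.fst ≫ biprod.snd))
        (biprod.snd ≫ biprod.snd ≫ biprod.fst)))
  let θ : V ≅ U := ⟨θh, θi, by ext <;> simp [θh, θi, U, V], by ext <;> simp [θh, θi, U, V]⟩
  refine ⟨d ≫ θ.hom, θ.inv ≫ d', by simp [hdd'], by simp [reassoc_of% hd'd], ?_, ?_⟩
  · obtain ⟨e⟩ := h2
    exact ⟨(ShortComplex.homologyMapIso (ShortComplex.isoMk (Iso.refl U) θ (Iso.refl U) (by simp [U]) (by simp [U]) :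
      ShortComplex.mk d d' hdd' ≅ _)).symm ≪≫ e⟩
  · obtain ⟨e⟩ := h1
    exact ⟨(ShortComplex.homologyMapIso (ShortComplex.isoMk θ (Iso.refl U) θ (by simp [U]) (by simp [U]) :
      ShortComplex.mk d' d hd'd ≅ _)).symm ≪≫ e⟩

end Groth.Agent.CycLib28.K0
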