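import Groth.Agent.CycLib28.K0.CycleClass
import Groth.Agent.CycLib28.K0.Heller
import Groth.Agent.CycLib28.K0.PeriodicPair
import Groth.Agent.CycLib28.PeriodicCycle
import Mathlib

/-!
# Cycles with the same class are rationally equivalent
-/

set_option autoImplicit false
set_option linter.style.haveILetI false
set_option backward.isDefEq.respectTransparency.types false
universe u

open CategoryTheory CategoryTheory.Limits AlgebraicGeometry
open scoped ZeroObject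

namespace Groth.Agent.CycLib28.K0

variable {X : Scheme.{u}} [IsLocallyNoetherian X] {δ : X → ℤ} {k : ℤ}

local notation "cls" => Cyc.toK0CohQuot δ

theorem clSub_biprod {a : ℤ} {F G : X.Modules} (h₁ : Cyc.CohLe δ a F) (h₂ : Cyc.CohLe δ a G) :
    KZero.clSub (Cyc.CohLe δ a) (F ⊞ G) = KZero.clSub (Cyc.CohLe δ a) F + KZero.clSub (Cyc.CohLe δ a) G := by
  rw [KZero.clSub, KZero.clSub, KZero.clSub, dif_pos h₁, dif_pos h₂, dif_pos (CohLe.biprod h₁ h₂),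
    ← QuotientAddGroup.mk_add, eq_comm, QuotientAddGroup.eq]
  refine AddSubgroup.subset_closure ⟨ShortComplex.mk biprod.inl biprod.snd biprod.inl_snd, h₁,
    CohLe.biprod h₁ h₂, h₂, (ShortComplex.Splitting.ofHasBinaryBiproduct F G).shortExact, ?_⟩
  abel

theorem clSub_zero {a : ℤ} : KZero.clSub (Cyc.CohLe δ a) (0 : X.Modules) = 0 := by
  have hz : Cyc.CohLe δ a (0 : X.Modules) := CohLe.zero (isZero_zero _)
  rw [KZero.clSub, dif_pos hz]
  refine (QuotientAddGroup.eq_zero_iff _).2 ?_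
  rw [← neg_mem_iff]
  refine AddSubgroup.subset_closure
    ⟨ShortComplex.mk (0 : (0 : X.Modules) ⟶ 0) (0 : (0 : X.Modules) ⟶ 0) zero_comp, hz, hz, hz,
      { exact := ShortComplex.exact_of_isZero_X₂ _ (isZero_zero _)
        mono_f := ⟨fun g h _ => (isZero_zero _).eq_of_tgt g h⟩
        epi_g := ⟨fun g h _ => (isZero_zero _).eq_of_src g h⟩ }, ?_⟩
  abel

/-- Elements of the subgroup of small classes are differences of two small classes. -/
theorem mem_closure_small {a b : ℤ} (hba : b ≤ a) {c : KZero.K0sub (Cyc.CohLe δ a)}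
    (hc : c ∈ AddSubgroup.closure {c : KZero.K0sub (Cyc.CohLe δ a) | ∃ F : X.Modules, Cyc.CohLe δ b F ∧
      c = KZero.clSub (Cyc.CohLe δ a) F}) :
    ∃ E₁ E₂ : X.Modules, Cyc.CohLe δ b E₁ ∧ Cyc.CohLe δ b E₂ ∧
      c = KZero.clSub (Cyc.CohLe δ a) E₁ - KZero.clSub (Cyc.CohLe δ a) E₂ := by
  have hz : Cyc.CohLe δ b (0 : X.Modules) := CohLe.zero (isZero_zero _)
  induction hc using AddSubgroup.closure_induction with
  | mem x hx =>
    obtain ⟨F, hF, rfl⟩ := hx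
    exact ⟨F, 0, hF, hz, by rw [clSub_zero, sub_zero]⟩
  | zero => exact ⟨0, 0, hz, hz, (sub_self _).symm⟩
  | neg x _ hx =>
    obtain ⟨E₁, E₂, h₁, h₂, rfl⟩ := hx
    exact ⟨E₂, E₁, h₂, h₁, neg_sub _ _⟩
  | add x y _ _ hx hy =>
    obtain ⟨E₁, E₂, h₁, h₂, rfl⟩ := hx
    obtain ⟨F₁, F₂, g₁, g₂, rfl⟩ := hy
    refine ⟨E₁ ⊞ F₁, E₂ ⊞ F₂, CohLe.biprod h₁ g₁, CohLe.biprod h₂ g₂, ?_⟩
    rw [clSub_biprod (CohLe.weaken h₁ hba) (CohLe.weaken g₁ hba),
      clSub_biprod (CohLe.weaken h₂ hba) (CohLe.weaken g₂ hba), add_sub_add_comm]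

theorem sheafFun_biprod (hδ : Cyc.IsDimFun X δ) {F G : X.Modules} (h₁ : Cyc.CohLe δ k F) (h₂ : Cyc.CohLe δ k G) :
    Cyc.sheafFun δ k (F ⊞ G) = Cyc.sheafFun δ k F + Cyc.sheafFun δ k G := by
  have hS : (ShortComplex.mk (biprod.inl : F ⟶ F ⊞ G) biprod.snd biprod.inl_snd).ShortExact :=
    (ShortComplex.Splitting.ofHasBinaryBiproduct F G).shortExact
  have h12 : Cyc.CohLe δ k (F ⊞ G) := CohLe.biprod h₁ h₂
  exact sheafFun_add (T := ShortComplex.mk (biprod.inl : F ⟶ F ⊞ G) biprod.snd biprod.inl_snd) hδ k hS h12.1 h12.2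

/-- Cycles with equal classes are rationally equivalent. -/
theorem ratEquivZero_of_cls_eq (hδ : Cyc.IsDimFun X δ) (α : AlgebraicCycle X ℤ) (hα : α ∈ Cyc.Zk X δ k)
    (h : cls (k + 1) (k - 1) (Cyc.cycleSheafPos ⇑α) = cls (k + 1) (k - 1) (Cyc.cycleSheafNeg ⇑α)) :
    Cyc.RatEquivZero δ k α := by
  obtain ⟨hpos, hneg, hcyc⟩ := cls_pos_sub_neg hδ α hα
  have hk : k ≤ k + 1 := by omega
  have hsmall := (QuotientAddGroup.eq).1 h
  obtain ⟨E₁, E₂, hE₁, hE₂, hE⟩ := mem_closure_small (by omega) hsmall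
  have hE₁k : Cyc.CohLe δ k E₁ := CohLe.weaken hE₁ (by omega)
  have hE₂k : Cyc.CohLe δ k E₂ := CohLe.weaken hE₂ (by omega)
  let A := Cyc.cycleSheafPos ⇑α ⊞ E₁
  let B := Cyc.cycleSheafNeg ⇑α ⊞ E₂
  have hA : Cyc.CohLe δ k A := CohLe.biprod hpos hE₁k
  have hB : Cyc.CohLe δ k B := CohLe.biprod hneg hE₂k
  have heq : KZero.clSub (Cyc.CohLe δ (k + 1)) A = KZero.clSub (Cyc.CohLe δ (k + 1)) B := by
    rw [clSub_biprod (CohLe.weaken hpos hk) (CohLe.weaken hE₁k hk),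
      clSub_biprod (CohLe.weaken hneg hk) (CohLe.weaken hE₂k hk)]
    rw [neg_add_eq_sub, sub_eq_sub_iff_add_eq_add] at hE
    rw [add_comm (KZero.clSub (Cyc.CohLe δ (k + 1)) (Cyc.cycleSheafPos ⇑α)), ← hE]
  obtain ⟨Xc, L, R, i, p, i', p', w, w', hX, hL, hR, hS, hS'⟩ :=
    heller_of_clSub_eq (P := Cyc.CohLe δ (k + 1)) (CohLe.zero (isZero_zero _)) (fun h₁ h₂ => CohLe.biprod h₁ h₂)
      (CohLe.weaken hA hk) (CohLe.weaken hB hk) heq
  obtain ⟨φ, ψ, h₁, h₂, ⟨eB⟩, ⟨eA⟩⟩ := exists_periodic i p i' p' w w' hS hS'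
  have hU : Cyc.CohLe δ (k + 1) (A ⊞ ((B ⊞ Xc) ⊞ (L ⊞ R))) :=
    CohLe.biprod (CohLe.weaken hA hk)
      (CohLe.biprod (CohLe.biprod (CohLe.weaken hB hk) hX) (CohLe.biprod hL hR))
  obtain ⟨γA, hγA⟩ := exists_sheafFun_cycle hδ A hA.1 k hA.2
  obtain ⟨γB, hγB⟩ := exists_sheafFun_cycle hδ B hB.1 k hB.2
  have hrat := ratEquiv_homology hδ k hU.1 hU.2 ψ φ h₂ h₁
    (CohLe.of_iso eA.symm hA).2 (CohLe.of_iso eB.symm hB).2 γA γB
    (hγA.trans (sheafFun_congr_iso eA.symm)) (hγB.trans (sheafFun_congr_iso eB.symm))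
  have hαeq : γA - γB = α := by
    refine DFunLike.coe_injective ?_
    show ⇑γA - ⇑γB = ⇑α
    rw [hγA, hγB, sheafFun_biprod hδ hpos hE₁k, sheafFun_biprod hδ hneg hE₂k,
      sheafFun_eq_zero hE₁ (by omega), sheafFun_eq_zero hE₂ (by omega), add_zero, add_zero]
    rw [map_sub, cycleHom_cls hδ k hpos, cycleHom_cls hδ k hneg] at hcyc
    exact hcyc
  rw [← hαeq]
  exact hrat

end Groth.Agent.CycLib28.K0
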