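import Groth.Agent.CycLib28.K0.LatticeAlg
import Groth.Agent.CycLib28.K0.CycleClass
import Groth.Agent.CycLib28.StalkLocal
import Mathlib

/-!
# Two modules of rank one on integral closed subschemes and their difference in `K₀(Coh_{≤k+1}/Coh_{≤k-1})`
-/

set_option autoImplicit false
set_option linter.style.haveILetI false
set_option backward.isDefEq.respectTransparency.types false
universe u

open CategoryTheory CategoryTheory.Limits AlgebraicGeometry TopologicalSpace Groth.Agent.Coherent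
  Groth.Agent.ModStalk

namespace Groth.Agent.CycLib28.K0

variable {X : Scheme.{u}} {δ : X → ℤ} {k : ℤ}

local notation "St" => DerSch.stalkFunctor X
local notation "cls" => Cyc.toK0CohQuot δ

/-- the residue field as a module over the local ring -/
noncomputable abbrev kap (ξ : X) : ModuleCat.{u} (X.presheaf.stalk ξ) :=
  ModuleCat.of _ (IsLocalRing.ResidueField (X.presheaf.stalk ξ))

theorem kap_smul (ξ : X) (c : X.presheaf.stalk ξ) (v : kap ξ) :
    (show X.residueField ξ from c • v) = (X.residue ξ).hom c * (show X.residueField ξ from v) :=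
  Algebra.smul_def c v

theorem kap_killed (ξ : X) :
    ∀ r ∈ IsLocalRing.maximalIdeal (X.presheaf.stalk ξ) ^ 1, ∀ v : kap ξ, r • v = 0 := fun r hr v => by
  rw [pow_one] at hr
  show (show X.residueField ξ from r • v) = 0
  rw [kap_smul]
  have : (X.residue ξ).hom r = 0 := Ideal.Quotient.eq_zero_iff_mem.2 hr
  rw [this, zero_mul]

/-- a generator of the stalk with annihilator the prime of the generalisation -/
def IsGenAt {ξ x : X} (h : ξ ⤳ x) (P : X.Modules) (p : P.presheaf.stalk x) : Prop :=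
  (∀ m : P.presheaf.stalk x, ∃ r : X.presheaf.stalk x, r • p = m) ∧
    ∀ r : X.presheaf.stalk x, Cyc.specMap x ξ h r = 0 → r • p = 0

theorem sky_specializes_injective {ξ x : X} (h : ξ ⤳ x) (A : ModuleCat.{u} (X.presheaf.stalk ξ))
    (v : ((sky ξ).obj A).presheaf.stalk x) (hv : ((sky ξ).obj A).presheaf.stalkSpecializes h v = 0) : v = 0 := by
  obtain ⟨V, hxV, s, rfl⟩ := ((sky ξ).obj A).presheaf.exists_germ_eq v
  have hξV : ξ ∈ V := h.mem_open V.2 hxV
  rw [TopCat.Presheaf.germ_stalkSpecializes_apply, ← map_zero (((sky ξ).obj A).presheaf.germ V ξ hξV).hom] at hv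
  obtain ⟨W, hξW, i, j, e⟩ := TopCat.Presheaf.germ_eq _ ξ hξV hξV _ _ hv
  refine (congrArg _ (?_ : s = 0)).trans (map_zero _)
  exact sval_ext (A := A) (U := V) fun hx => congrArg (fun z => sval (A := A) (U := W) z hξW) e

variable [IsLocallyNoetherian X]

theorem exists_lattice (hδ : Cyc.IsDimFun X δ) (ξ : X) {P Q : X.Modules} (hP : CohAt ξ P) (hQ : CohAt ξ Q)
    (g₁ : (St ξ).obj P ⟶ kap ξ) (g₂ : (St ξ).obj Q ⟶ kap ξ)
    (hg₁ : Function.Bijective g₁) (hg₂ : Function.Bijective g₂) :
    ∃ (N : X.Modules) (α : P ⟶ N) (β : Q ⟶ N), CohAt ξ N ∧ Function.Bijective ((St ξ).map α) ∧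
      Function.Bijective ((St ξ).map β) ∧
      ∀ (x : X) (h : ξ ⤳ x), δ x + 1 = δ ξ → ∀ (p : P.presheaf.stalk x) (q : Q.presheaf.stalk x),
        IsGenAt h P p → IsGenAt h Q q →
        (show X.residueField ξ from g₁ (P.presheaf.stalkSpecializes h p)) ≠ 0 →
        (show X.residueField ξ from g₂ (Q.presheaf.stalkSpecializes h q)) ≠ 0 →
        Function.Injective ((St x).map α) ∧ Function.Injective ((St x).map β) ∧
          len x (cokernel α) ≠ ⊤ ∧ len x (cokernel β) ≠ ⊤ ∧
          ((len x (cokernel α)).toNat : ℤ) - (len x (cokernel β)).toNat =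
            Cyc.ordAt x ξ h (show X.residueField ξ from g₁ (P.presheaf.stalkSpecializes h p)) -
              Cyc.ordAt x ξ h (show X.residueField ξ from g₂ (Q.presheaf.stalkSpecializes h q)) := by
  let d : P ⊞ Q ⟶ (sky ξ).obj (kap ξ) := biprod.desc (skyMap ξ g₁) (skyMap ξ g₂)
  have hPQ : Coh.IsCoh (P ⊞ Q) :=
    isCoh_X₂ (ShortComplex.Splitting.ofHasBinaryBiproduct P Q).shortExact hP.1 hQ.1
  have := hPQ.1
  have := isQCoh_sky_of_killed ξ 1 (kap_killed ξ)
  have hI2 : Coh.IsQCoh (Abelian.image d) := isQCoh_image d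
  let π := Abelian.factorThruImage d
  let α : P ⟶ Abelian.image d := biprod.inl ≫ π
  let β : Q ⟶ Abelian.image d := biprod.inr ≫ π
  have hα : α ≫ Abelian.image.ι d = skyMap ξ g₁ := by
    rw [Category.assoc, Abelian.image.fac]; exact biprod.inl_desc _ _
  have hβ : β ≫ Abelian.image.ι d = skyMap ξ g₂ := by
    rw [Category.assoc, Abelian.image.fac]; exact biprod.inr_desc _ _
  have hm : ∀ z, Function.Injective ((St z).map (Abelian.image.ι d)) := fun z =>
    (ModuleCat.mono_iff_injective _).1 inferInstance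
  have key : ∀ (v : (St ξ).obj P) (w : (St ξ).obj Q), (St ξ).map α v = (St ξ).map β w ↔ g₁ v = g₂ w := fun v w => by
    rw [← (hm ξ).eq_iff]
    erw [stalk_comp_apply, stalk_comp_apply]
    rw [hα, hβ]
    exact stalk_skyMap_eq_iff ξ g₁ g₂ v w
  have hαi : Function.Injective ((St ξ).map α) := fun v v' h => by
    obtain ⟨w, hw⟩ := hg₂.2 (g₁ v)
    have h1 := (key v w).2 hw.symm
    rw [h] at h1
    exact hg₁.1 (hw.symm.trans ((key v' w).1 h1).symm)
  have hβi : Function.Injective ((St ξ).map β) := fun w w' h => by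
    obtain ⟨v, hv⟩ := hg₁.2 (g₂ w)
    have h1 := (key v w).2 hv
    rw [h] at h1
    exact hg₂.1 (hv.symm.trans ((key v w').1 h1))
  have hsurj : ∀ (z : X) u, ∃ v w, u = (St z).map α v + (St z).map β w := fun z u => by
    obtain ⟨y, rfl⟩ := (ModuleCat.epi_iff_surjective ((St z).map π)).1 inferInstance u
    refine ⟨(St z).map biprod.fst y, (St z).map biprod.snd y, ?_⟩
    rw [stalk_comp_apply, stalk_comp_apply, ← stalk_add_apply]
    exact congrArg (fun f => (St z).map f y) (by
      simp only [α, β, ← Category.assoc]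
      rw [← Preadditive.add_comp, biprod.total, Category.id_comp])
  have hαs : Function.Surjective ((St ξ).map α) := fun u => by
    obtain ⟨v, w, rfl⟩ := hsurj ξ u
    obtain ⟨v', hv'⟩ := hg₁.2 (g₂ w)
    exact ⟨v + v', by rw [map_add, (key v' w).2 hv']⟩
  have hβs : Function.Surjective ((St ξ).map β) := fun u => by
    obtain ⟨v, w, rfl⟩ := hsurj ξ u
    obtain ⟨w', hw'⟩ := hg₂.2 (g₁ v)
    exact ⟨w' + w, by rw [map_add, ← (key v w').2 hw'.symm]⟩
  refine ⟨Abelian.image d, α, β,
    ⟨AssSch12.isCoh_of_epi _ π hI2 (locallyFinGen_of_isFT _ hPQ.2),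
      (support_subset_of_mono (Abelian.image.ι d)).trans (support_sky_subset _)⟩,
    ⟨hαi, hαs⟩, ⟨hβi, hβs⟩, fun x h hd p q hp hq hv₁ hv₂ => ?_⟩
  let e : (St ξ).obj P ≃ₗ[X.presheaf.stalk ξ] (St ξ).obj (Abelian.image d) :=
    LinearEquiv.ofBijective ((St ξ).map α).hom ⟨hαi, hαs⟩
  let spc : (St x).obj (Abelian.image d) →+ (St ξ).obj (Abelian.image d) :=
    ((Abelian.image d).presheaf.stalkSpecializes h).hom
  have hspc : ∀ r (m : (St x).obj (Abelian.image d)),
      spc (r • m) = (X.presheaf.stalkSpecializes h).hom r • spc m := fun r m =>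
    stalkSpecializes_smul' (Abelian.image d) h r m
  let G : (St ξ).obj (Abelian.image d) →ₗ[X.presheaf.stalk ξ] kap ξ := g₁.hom.comp e.symm.toLinearMap
  have hG : Function.Injective G := hg₁.1.comp e.symm.injective
  let j : (St x).obj (Abelian.image d) →+ X.residueField ξ := (show _ →+ X.residueField ξ from G.toAddMonoidHom.comp spc)
  have hj : ∀ r (m : (St x).obj (Abelian.image d)), j (r • m) = Cyc.specMap x ξ h r * j m := fun r m => by
    show (show X.residueField ξ from G (spc (r • m))) = _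
    rw [hspc, map_smul]
    exact kap_smul ξ _ _
  have hinj : Function.Injective j := by
    refine (injective_iff_map_eq_zero j).2 fun n hn => hm x (Eq.trans ?_ (map_zero _).symm)
    have h0 : spc n = 0 := hG ((show G (spc n) = 0 from hn).trans (map_zero G).symm)
    refine sky_specializes_injective h _ _ ?_
    refine (stalkMap_specializes (Abelian.image.ι d) h n).symm.trans ?_
    exact (congrArg ((St ξ).map (Abelian.image.ι d)).hom h0).trans (map_zero ((St ξ).map (Abelian.image.ι d)).hom)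
  have hj₁ : j ((St x).map α p) = g₁ (P.presheaf.stalkSpecializes h p) := by
    have h1 : spc ((St x).map α p) = (St ξ).map α (P.presheaf.stalkSpecializes h p) :=
      (stalkMap_specializes α h p).symm
    show (show X.residueField ξ from G (spc ((St x).map α p))) = _
    rw [h1]
    exact congrArg g₁ (e.symm_apply_apply _)
  have hj₂ : j ((St x).map β q) = g₂ (Q.presheaf.stalkSpecializes h q) := by
    have h1 : spc ((St x).map β q) = (St ξ).map β (Q.presheaf.stalkSpecializes h q) :=
      (stalkMap_specializes β h q).symm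
    show (show X.residueField ξ from G (spc ((St x).map β q))) = _
    rw [h1]
    refine (key _ _).1 ?_
    exact e.apply_symm_apply _
  have hn₁ : j ((St x).map α p) ≠ 0 := hj₁ ▸ hv₁
  have hn₂ : j ((St x).map β q) ≠ 0 := hj₂ ▸ hv₂
  have hspan : Submodule.span (X.presheaf.stalk x)
      ({(St x).map α p, (St x).map β q} : Set ((St x).obj (Abelian.image d))) = ⊤ := by
    rw [eq_top_iff]
    intro u _
    obtain ⟨v, w, rfl⟩ := hsurj x u
    obtain ⟨r, hr⟩ := hp.1 v
    obtain ⟨r', hr'⟩ := hq.1 w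
    exact Submodule.mem_span_pair.2 ⟨r, r', by rw [← map_smul, ← map_smul]; erw [hr, hr']⟩
  have hinjx : ∀ {R : X.Modules} (φ : R ⟶ Abelian.image d) (t : R.presheaf.stalk x), IsGenAt h R t →
      j ((St x).map φ t) ≠ 0 → Function.Injective ((St x).map φ) := fun {R} φ t ht hne => by
    refine (injective_iff_map_eq_zero ((St x).map φ).hom).2 fun v hv => ?_
    obtain ⟨r, rfl⟩ := ht.1 v
    refine ht.2 r ((mul_eq_zero.1 (?_ : _ * j ((St x).map φ t) = 0)).resolve_right hne)
    rw [← hj, ← map_smul]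
    exact (congrArg j hv).trans (map_zero j)
  have hcok : ∀ {R : X.Modules} (φ : R ⟶ Abelian.image d) (t : R.presheaf.stalk x),
      (∀ v : R.presheaf.stalk x, ∃ r : X.presheaf.stalk x, r • t = v) → len x (cokernel φ) = Module.length (X.presheaf.stalk x)
        ((St x).obj (Abelian.image d) ⧸ Submodule.span (X.presheaf.stalk x) {(St x).map φ t}) := fun {R} φ t ht => by
    have hex := (ShortComplex.ShortExact.moduleCat_exact_iff_function_exact _).1 ((ShortComplex.exact_cokernel φ).map (St x))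
    have hs : Function.Surjective ((St x).map (cokernel.π φ)) :=
      (ModuleCat.epi_iff_surjective _).1 inferInstance
    have hk : LinearMap.ker ((St x).map (cokernel.π φ)).hom =
        Submodule.span (X.presheaf.stalk x) {(St x).map φ t} := by
      ext u
      refine (hex u).trans ⟨?_, fun hu => ?_⟩
      · rintro ⟨v, rfl⟩
        obtain ⟨r, rfl⟩ := ht v
        refine Submodule.mem_span_singleton.2 ⟨r, ?_⟩
        exact (map_smul ((St x).map φ).hom r t).symm
      · obtain ⟨r, rfl⟩ := Submodule.mem_span_singleton.1 hu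
        exact ⟨(r • t : (St x).obj R), map_smul ((St x).map φ).hom r t⟩
    exact ((Submodule.quotEquivOfEq _ _ hk.symm).trans (LinearMap.quotKerEquivOfSurjective _ hs)).length_eq.symm
  obtain ⟨m₁, m₂, m₃⟩ := length_lattice hδ h hd _ _ hspan j hj hinj hn₁ hn₂
  refine ⟨hinjx α p hp hn₁, hinjx β q hq hn₂, ?_, ?_, ?_⟩
  · rw [hcok α p hp.1]; exact m₁
  · rw [hcok β q hq.1]; exact m₂
  · rw [hcok α p hp.1, hcok β q hq.1, m₃, hj₁, hj₂]

omit [IsLocallyNoetherian X] in
theorem stalk_ι_π_self {J : Type u} (f : J → X.Modules) (x : X) (j : J) (v : (St x).obj (f j)) :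
    (St x).map (sigmaToPi f ≫ Pi.π f j) ((St x).map (Sigma.ι f j) v) = v := by
  rw [stalk_comp_apply, ι_sigmaToPi_π_self, stalk_id_apply]

omit [IsLocallyNoetherian X] in
theorem stalk_ι_π_ne {J : Type u} (f : J → X.Modules) (x : X) {i j : J} (h : i ≠ j) (v : (St x).obj (f i)) :
    (St x).map (sigmaToPi f ≫ Pi.π f j) ((St x).map (Sigma.ι f i) v) = 0 := by
  rw [stalk_comp_apply, ι_sigmaToPi_π_ne f h, stalk_zero_apply]

omit [IsLocallyNoetherian X] in
/-- The length of the stalk of a coproduct with finitely many summands at the point. -/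
theorem len_sigma {J : Type u} (f : J → X.Modules) (x : X) (s : Finset J)
    (hs : ∀ j ∉ s, x ∉ CohB1.support (f j)) : len x (∐ f) = ∑ j ∈ s, len x (f j) := by
  classical
  let Φ : (St x).obj (∐ f) →ₗ[X.presheaf.stalk x] ((j : s) → (St x).obj (f j)) :=
    LinearMap.pi fun j => ((St x).map (sigmaToPi f ≫ Pi.π f j.1)).hom
  let Ψ : ((j : s) → (St x).obj (f j)) →ₗ[X.presheaf.stalk x] (St x).obj (∐ f) :=
    ∑ j : s, ((St x).map (Sigma.ι f j.1)).hom.comp (LinearMap.proj j)
  have hΨ : ∀ v, Ψ v = ∑ j : s, (St x).map (Sigma.ι f j.1) (v j) := fun v => LinearMap.sum_apply _ _ _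
  have h1 : ∀ v, Φ (Ψ v) = v := fun v => funext fun i => by
    show (St x).map (sigmaToPi f ≫ Pi.π f i.1) (Ψ v) = v i
    rw [hΨ, map_sum, Finset.sum_eq_single i (fun j _ hji => stalk_ι_π_ne f x (fun e => hji (Subtype.ext e)) (v j))
      fun h => absurd (Finset.mem_univ i) h]
    exact stalk_ι_π_self f x i.1 (v i)
  have h2 : ∀ v, Ψ (Φ v) = v := by
    intro v
    have : ModuleCat.ofHom (Ψ.comp Φ) = 𝟙 ((St x).obj (∐ f)) := by
      refine stalk_sigma_hom_ext f x _ _ fun i => ?_
      rw [Category.comp_id]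
      refine ModuleCat.hom_ext (LinearMap.ext fun w => ?_)
      show Ψ (Φ ((St x).map (Sigma.ι f i) w)) = (St x).map (Sigma.ι f i) w
      rw [hΨ]
      by_cases hi : i ∈ s
      · rw [Finset.sum_eq_single ⟨i, hi⟩ (fun j _ hji => ?_) fun h => absurd (Finset.mem_univ _) h]
        · exact congrArg ((St x).map (Sigma.ι f i)).hom (stalk_ι_π_self f x i w)
        · exact (congrArg ((St x).map (Sigma.ι f j.1)).hom (stalk_ι_π_ne f x (fun e => hji (Subtype.ext e.symm)) w)).trans
            (map_zero ((St x).map (Sigma.ι f j.1)).hom)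
      · haveI : Subsingleton ((St x).obj (f i)) := not_not.1 (hs i hi)
        rw [Subsingleton.elim w 0, map_zero, map_zero]
        exact Finset.sum_eq_zero fun j _ => map_zero ((St x).map (Sigma.ι f j.1)).hom
    exact ConcreteCategory.congr_hom this v
  let e : (St x).obj (∐ f) ≃ₗ[X.presheaf.stalk x] ((j : s) → (St x).obj (f j)) :=
    { Φ with invFun := Ψ, left_inv := h2, right_inv := h1 }
  rw [len, e.length_eq, Module.length_pi_of_fintype]
  exact Finset.sum_coe_sort s fun j => len x (f j)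

/-- The comparison of two families. -/
theorem cls_family (hδ : Cyc.IsDimFun X δ) {I : Type u} (ξ : I → X)
    (hloc : LocallyFinite fun i => closure ({ξ i} : Set X)) (hd : ∀ i, δ (ξ i) = k + 1) (P Q : I → X.Modules)
    (hP : ∀ i, CohAt (ξ i) (P i)) (hQ : ∀ i, CohAt (ξ i) (Q i))
    (g₁ : ∀ i, (St (ξ i)).obj (P i) ⟶ kap (ξ i)) (g₂ : ∀ i, (St (ξ i)).obj (Q i) ⟶ kap (ξ i))
    (hg₁ : ∀ i, Function.Bijective (g₁ i)) (hg₂ : ∀ i, Function.Bijective (g₂ i)) (w : I → X → ℤ)
    (hw : ∀ i x (h : ξ i ⤳ x), δ x = k → ∃ (p : (P i).presheaf.stalk x) (q : (Q i).presheaf.stalk x),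
      IsGenAt h (P i) p ∧ IsGenAt h (Q i) q ∧
      (show X.residueField (ξ i) from g₁ i ((P i).presheaf.stalkSpecializes h p)) ≠ 0 ∧
      (show X.residueField (ξ i) from g₂ i ((Q i).presheaf.stalkSpecializes h q)) ≠ 0 ∧
      w i x = Cyc.ordAt x (ξ i) h (show X.residueField (ξ i) from g₂ i ((Q i).presheaf.stalkSpecializes h q)) -
        Cyc.ordAt x (ξ i) h (show X.residueField (ξ i) from g₁ i ((P i).presheaf.stalkSpecializes h p)))
    (hw0 : ∀ i x, δ x = k → ¬ ξ i ⤳ x → w i x = 0)
    (γ : AlgebraicCycle X ℤ) (hγk : γ ∈ Cyc.Zk X δ k) (hγ : ∀ x, δ x = k → γ x = ∑ᶠ i, w i x) :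
    cls (k + 1) (k - 1) (∐ P) - cls (k + 1) (k - 1) (∐ Q) =
      cls (k + 1) (k - 1) (Cyc.cycleSheafPos ⇑γ) - cls (k + 1) (k - 1) (Cyc.cycleSheafNeg ⇑γ) := by
  choose N α β hN hα hβ hloc' using fun i => exists_lattice hδ (ξ i) (hP i) (hQ i) (g₁ i) (g₂ i) (hg₁ i) (hg₂ i)
  -- the cokernels
  have hC : ∀ {R : I → X.Modules} (φ : ∀ i, R i ⟶ N i), (∀ i, CohAt (ξ i) (R i)) →
      (∀ i, CohAt (ξ i) (cokernel (φ i))) := fun {R} φ hR i =>
    ⟨isCoh_cokernel (φ i) (hR i).1.1 (hN i).1, (support_subset_of_epi (cokernel.π (φ i))).trans (hN i).2⟩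
  have hle : ∀ {x : X} {i : I}, x ∈ closure ({ξ i} : Set X) → δ x ≤ k + 1 :=
    fun {x i} hx => (le_of_mem_closure hδ hx).trans (hd i).le
  have key : ∀ {R : I → X.Modules} (φ : ∀ i, R i ⟶ N i), (∀ i, CohAt (ξ i) (R i)) →
      (∀ i, Function.Bijective ((St (ξ i)).map (φ i))) →
      (∀ i x, δ x = k → ξ i ⤳ x → Function.Injective ((St x).map (φ i))) →
      Cyc.CohLe δ k (∐ fun i => cokernel (φ i)) ∧
      cls (k + 1) (k - 1) (∐ N) =
        cls (k + 1) (k - 1) (∐ R) + cls (k + 1) (k - 1) (∐ fun i => cokernel (φ i)) := by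
    intro R φ hR hbij hinj
    have := fun i => (hR i).1.1
    have := fun i => (hN i).1.1
    let K : I → X.Modules := fun i => kernel (φ i)
    let M : I → X.Modules := fun i => Abelian.image (φ i)
    let C : I → X.Modules := fun i => cokernel (φ i)
    have hK : ∀ i, CohAt (ξ i) (K i) := fun i =>
      ⟨isCoh_kernel (φ i) (hR i).1 (hN i).1.1, (support_subset_of_mono (kernel.ι (φ i))).trans (hR i).2⟩
    have hM : ∀ i, CohAt (ξ i) (M i) := fun i =>
      ⟨isCoh_of_mono (Abelian.image.ι (φ i)) (hN i).1 (isQCoh_image (φ i)),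
        (support_subset_of_mono (Abelian.image.ι (φ i))).trans (hN i).2⟩
    have hC' : ∀ i, CohAt (ξ i) (C i) := hC φ hR
    have cohR := cohLe_outer (k := k + 1) hδ hloc hd R hR
    have cohN := cohLe_outer (k := k + 1) hδ hloc hd N hN
    have cohM := cohLe_outer (k := k + 1) hδ hloc hd M hM
    have cohC := cohLe_outer (k := k + 1) hδ hloc hd C hC'
    have cohK := cohLe_outer (k := k + 1) hδ hloc hd K hK
    have hK0 : Cyc.CohLe δ (k - 1) (∐ K) := ⟨cohK.1, fun x hx => by
      obtain ⟨i, hi⟩ := Set.mem_iUnion.1 (support_sigma_subset K (mem_support_iff.2 hx))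
      have hxi : x ∈ closure ({ξ i} : Set X) := (hK i).2 hi
      by_contra hne
      refine hi (subsingleton_of_forall_eq 0 fun a => ?_)
      have hin : Function.Injective ((St x).map (φ i)) := by
        rcases (show δ x = k ∨ δ x = k + 1 by have := hle hxi; omega) with hk | hk
        · exact hinj i x hk (specializes_iff_mem_closure.2 hxi)
        · rw [eq_of_mem_closure hδ (hd i) hxi hk.ge]; exact (hbij i).1
      refine (ModuleCat.mono_iff_injective ((St x).map (kernel.ι (φ i)))).1 inferInstance (hin ?_)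
      erw [map_zero, map_zero, stalk_comp_apply, kernel.condition, stalk_zero_apply]⟩
    have hC0 : Cyc.CohLe δ k (∐ C) := ⟨cohC.1, fun x hx => by
      obtain ⟨i, hi⟩ := Set.mem_iUnion.1 (support_sigma_subset C (mem_support_iff.2 hx))
      have hxi : x ∈ closure ({ξ i} : Set X) := (hC' i).2 hi
      by_contra hne
      have e : x = ξ i := eq_of_mem_closure hδ (hd i) hxi (by omega)
      refine hi (subsingleton_of_forall_eq 0 fun c => ?_)
      subst e
      obtain ⟨v, rfl⟩ := (ModuleCat.epi_iff_surjective ((St (ξ i)).map (cokernel.π (φ i)))).1 inferInstance c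
      obtain ⟨v', rfl⟩ := (hbij i).2 v
      refine (stalk_comp_apply _ _ _).trans ?_
      rw [cokernel.condition]; exact stalk_zero_apply _⟩
    have w₁ : ∀ i, kernel.ι (φ i) ≫ Abelian.factorThruImage (φ i) = 0 := fun i => by
      rw [← cancel_mono (Abelian.image.ι (φ i)), Category.assoc, Abelian.image.fac, kernel.condition, zero_comp]
    have s₁ := sigma_shortExact (fun i => kernel.ι (φ i)) (fun i => Abelian.factorThruImage (φ i)) w₁ fun i =>
      { mono_f := inferInstanceAs (Mono (kernel.ι (φ i)))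
        epi_g := inferInstanceAs (Epi (Abelian.factorThruImage (φ i)))
        exact := ShortComplex.exact_of_f_is_kernel _
          (isKernelOfComp (f := Abelian.factorThruImage (φ i)) (Abelian.image.ι (φ i)) (φ i)
            (kernelIsKernel (φ i)) (w₁ i) (Abelian.image.fac (φ i))) }
    have s₂ := sigma_shortExact (fun i => Abelian.image.ι (φ i)) (fun i => cokernel.π (φ i))
      (fun i => kernel.condition (cokernel.π (φ i))) fun i =>
      { exact := ShortComplex.exact_of_f_is_kernel _ (kernelIsKernel (cokernel.π (φ i)))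
        mono_f := inferInstanceAs (Mono (kernel.ι (cokernel.π (φ i))))
        epi_g := inferInstanceAs (Epi (cokernel.π (φ i))) }
    have e₁ : cls (k + 1) (k - 1) (∐ R) = cls (k + 1) (k - 1) (∐ K) + cls (k + 1) (k - 1) (∐ M) :=
      cls_ses s₁ cohK cohR cohM
    have e₂ : cls (k + 1) (k - 1) (∐ N) = cls (k + 1) (k - 1) (∐ M) + cls (k + 1) (k - 1) (∐ C) :=
      cls_ses s₂ cohM cohN cohC
    refine ⟨hC0, ?_⟩
    rw [e₂, e₁, cls_eq_zero hK0, zero_add]
  obtain ⟨hCα, eα⟩ := key α hP hα fun i x hx h => by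
    obtain ⟨p, q, hp, hq, h₁, h₂, -⟩ := hw i x h hx
    exact (hloc' i x h (by rw [hd i, hx]) p q hp hq h₁ h₂).1
  obtain ⟨hCβ, eβ⟩ := key β hQ hβ fun i x hx h => by
    obtain ⟨p, q, hp, hq, h₁, h₂, -⟩ := hw i x h hx
    exact (hloc' i x h (by rw [hd i, hx]) p q hp hq h₁ h₂).2.1
  -- the cycles of the cokernels
  obtain ⟨hpos, hneg, hcyc⟩ := cls_pos_sub_neg hδ γ hγk
  have main : cls k (k - 1) (∐ fun i => cokernel (β i)) - cls k (k - 1) (∐ fun i => cokernel (α i)) =
      cls k (k - 1) (Cyc.cycleSheafPos ⇑γ) - cls k (k - 1) (Cyc.cycleSheafNeg ⇑γ) := by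
    refine cycleHom_injective hδ ?_
    rw [hcyc, map_sub, cycleHom_cls hδ k hCβ, cycleHom_cls hδ k hCα]
    funext x
    simp only [Pi.sub_apply, Cyc.sheafFun]
    by_cases hx : δ x = k
    swap
    · rw [if_neg hx, if_neg hx, hγk x hx, sub_zero]
    rw [if_pos hx, if_pos hx, hγ x hx]
    let s : Finset I := (hloc.point_finite x).toFinset
    have hns : ∀ i ∉ s, x ∉ closure ({ξ i} : Set X) := fun i hi h => hi ((hloc.point_finite x).mem_toFinset.2 h)
    rw [finsum_eq_sum_of_support_subset (fun i => w i x) (s := s) fun i hi => by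
      by_contra h
      exact hi (hw0 i x hx fun h' => hns i h (specializes_iff_mem_closure.1 h'))]
    have hl₁ := len_sigma (fun i => cokernel (α i)) x s fun i hi h => hns i hi ((hC α hP i).2 h)
    have hl₂ := len_sigma (fun i => cokernel (β i)) x s fun i hi h => hns i hi ((hC β hQ i).2 h)
    have hfin : ∀ i ∈ s, len x (cokernel (α i)) ≠ ⊤ ∧ len x (cokernel (β i)) ≠ ⊤ ∧
        w i x = ((len x (cokernel (β i))).toNat : ℤ) - (len x (cokernel (α i))).toNat := fun i hi => by
      have hsp : ξ i ⤳ x := specializes_iff_mem_closure.2 ((hloc.point_finite x).mem_toFinset.1 hi)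
      obtain ⟨p, q, hp, hq, h₁, h₂, hwi⟩ := hw i x hsp hx
      obtain ⟨-, -, t₁, t₂, t₃⟩ := hloc' i x hsp (by rw [hd i, hx]) p q hp hq h₁ h₂
      exact ⟨t₁, t₂, by rw [hwi]; omega⟩
    show ((len x (∐ fun i => cokernel (β i))).toNat : ℤ) - ((len x (∐ fun i => cokernel (α i))).toNat : ℤ) = _
    rw [hl₁, hl₂, ENat.toNat_sum fun i hi => (hfin i hi).2.1, ENat.toNat_sum fun i hi => (hfin i hi).1]
    push_cast
    rw [← Finset.sum_sub_distrib]
    exact Finset.sum_congr rfl fun i hi => (hfin i hi).2.2.symm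
  have main' := congrArg (raiseHom δ (show k ≤ k + 1 by omega) (k - 1)) main
  rw [map_sub, map_sub, raiseHom_cls _ hCβ, raiseHom_cls _ hCα, raiseHom_cls _ hpos, raiseHom_cls _ hneg] at main'
  rw [← main', eq_sub_of_add_eq eα.symm, eq_sub_of_add_eq eβ.symm]
  abel

end Groth.Agent.CycLib28.K0
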