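import Groth.Agent.CycLib28.OrdRestrict
import Mathlib

/-!
# Lengths of quotients of a lattice in the residue field of a generalisation
-/

set_option autoImplicit false
set_option linter.style.haveILetI false
universe u

open CategoryTheory AlgebraicGeometry

namespace Groth.Agent.CycLib28.K0

theorem length_quotient_add {R K M : Type u} [CommRing R] [Field K] [AddCommGroup M] [Module R M] (q : R →+* K)
    (u₁ u₂ : M) (hspan : Submodule.span R {u₁, u₂} = ⊤) (j : M →+ K) (hj : ∀ r m, j (r • m) = q r * j m)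
    (hinj : Function.Injective j) (h₁ : j u₁ ≠ 0) (a s : R) (hs : q s ≠ 0) (has : q s * j u₂ = q a * j u₁) :
    Module.length R (M ⧸ Submodule.span R {u₁}) +
        Module.length R (R ⧸ (RingHom.ker q ⊔ Ideal.span {s} ⊔ Ideal.span {a})) =
      Module.length R (R ⧸ (RingHom.ker q ⊔ Ideal.span {s})) := by
  set J := RingHom.ker q ⊔ Ideal.span {s}
  let H : R →ₗ[R] M ⧸ Submodule.span R {u₁} :=
    (Submodule.mkQ _).comp (LinearMap.toSpanSingleton R M u₂)
  let K' : R →ₗ[R] R ⧸ J := (Submodule.mkQ J).comp (LinearMap.toSpanSingleton R R a)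
  have hH : Function.Surjective H := fun v => by
    obtain ⟨m, rfl⟩ := Submodule.mkQ_surjective _ v
    obtain ⟨r₁, r₂, rfl⟩ := Submodule.mem_span_pair.1 (hspan.ge (Submodule.mem_top (x := m)))
    refine ⟨r₂, (Submodule.Quotient.eq _).2 ?_⟩
    rw [LinearMap.toSpanSingleton_apply, show r₂ • u₂ - (r₁ • u₁ + r₂ • u₂) = -(r₁ • u₁) by abel]
    exact Submodule.neg_mem _ (Submodule.smul_mem _ _ (Submodule.subset_span rfl))
  have hker : LinearMap.ker H = LinearMap.ker K' := by
    ext r
    simp only [LinearMap.mem_ker, H, K', LinearMap.comp_apply, Submodule.mkQ_apply,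
      Submodule.Quotient.mk_eq_zero, LinearMap.toSpanSingleton_apply, smul_eq_mul]
    constructor
    · intro h
      obtain ⟨c, hc⟩ := Submodule.mem_span_singleton.1 h
      have hc' := congrArg j hc
      rw [hj, hj] at hc'
      have : q (r * a - c * s) = 0 := by
        refine (mul_eq_zero.1 (?_ : q (r * a - c * s) * j u₁ = 0)).resolve_right h₁
        rw [map_sub, map_mul, map_mul]
        linear_combination (-q r) * has - q s * hc'
      rw [show r * a = (r * a - c * s) + c * s by ring]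
      exact Submodule.add_mem_sup this (Ideal.mem_span_singleton'.2 ⟨c, rfl⟩)
    · intro h
      obtain ⟨n, hn, z, hz, hnz⟩ := Submodule.mem_sup.1 h
      obtain ⟨c, rfl⟩ := Ideal.mem_span_singleton'.1 hz
      refine Submodule.mem_span_singleton.2 ⟨c, hinj ?_⟩
      rw [hj, hj]
      have hn' : q n = 0 := hn
      have := congrArg q hnz
      rw [map_add, map_mul, map_mul, hn', zero_add] at this
      refine mul_left_cancel₀ hs ?_
      linear_combination (j u₁) * this - q r * has
  have e : (M ⧸ Submodule.span R {u₁}) ≃ₗ[R] LinearMap.range K' :=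
    (LinearMap.quotKerEquivOfSurjective H hH).symm.trans
      ((Submodule.quotEquivOfEq _ _ hker).trans K'.quotKerEquivRange)
  have hle : J ≤ J ⊔ Ideal.span {a} := le_sup_left
  rw [e.length_eq]
  refine (Module.length_eq_add_of_exact (LinearMap.range K').subtype (Submodule.factor hle)
    Subtype.val_injective (Submodule.factor_surjective hle) ?_).symm
  intro v
  obtain ⟨r, rfl⟩ := Submodule.mkQ_surjective J v
  rw [Submodule.mkQ_apply, Submodule.factor, Submodule.mapQ_apply, LinearMap.id_apply, Submodule.Quotient.mk_eq_zero]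
  constructor
  · intro h
    obtain ⟨n, hn, z, hz, rfl⟩ := Submodule.mem_sup.1 h
    obtain ⟨c, rfl⟩ := Ideal.mem_span_singleton'.1 hz
    refine ⟨⟨_, LinearMap.mem_range_self K' c⟩, (Submodule.Quotient.eq J).2 ?_⟩
    rw [LinearMap.toSpanSingleton_apply, smul_eq_mul, show c * a - (n + c * a) = -n by ring]
    exact Submodule.neg_mem _ hn
  · rintro ⟨⟨_, c, rfl⟩, hc⟩
    have := (Submodule.Quotient.eq J).1 hc
    rw [LinearMap.toSpanSingleton_apply, smul_eq_mul] at this
    rw [show r = c * a - (c * a - r) by ring]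
    exact Submodule.sub_mem _ (Submodule.mem_sup_right (Ideal.mem_span_singleton'.2 ⟨c, rfl⟩)) (hle this)

variable {X : Scheme.{u}} [IsLocallyNoetherian X] {δ : X → ℤ}

theorem length_ker_sup_ne_top (hδ : Cyc.IsDimFun X δ) {x ξ : X} (h : ξ ⤳ x) (hd : δ x + 1 = δ ξ)
    (a : X.presheaf.stalk x) (ha : Cyc.specMap x ξ h a ≠ 0) :
    Module.length (X.presheaf.stalk x)
      (X.presheaf.stalk x ⧸ (RingHom.ker (Cyc.specMap x ξ h) ⊔ Ideal.span {a})) ≠ ⊤ := by
  obtain ⟨h1, h2, h3, h4⟩ := locQuot_conds hδ h hd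
  have hp : (RingHom.ker (Cyc.specMap x ξ h)).IsPrime := RingHom.ker_isPrime _
  set a₀ : Cyc.LocQuot x ξ h := Ideal.Quotient.mk _ a
  have hne : a₀ ≠ 0 := fun h0 ↦ ha (Ideal.Quotient.eq_zero_iff_mem.mp h0)
  have hl : Module.length (X.presheaf.stalk x)
      (X.presheaf.stalk x ⧸ (RingHom.ker (Cyc.specMap x ξ h) ⊔ Ideal.span {a})) =
      Ring.ord (Cyc.LocQuot x ξ h) a₀ := by
    rw [Ring.ord, ← bot_sup_eq (Ideal.span {a₀}),
      ord_eq_of_surjective (Ideal.Quotient.mk (RingHom.ker (Cyc.specMap x ξ h))) Ideal.Quotient.mk_surjective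
        ⊥ a₀ a rfl, ← RingHom.ker_eq_comap_bot, Ideal.mk_ker]
  rw [hl]
  exact Ring.ord_ne_top (mem_nonZeroDivisors_iff_ne_zero.mpr hne)

/-- A lattice spanned by two elements: the two quotients compare by the orders of the elements. -/
theorem length_lattice (hδ : Cyc.IsDimFun X δ) {x ξ : X} (h : ξ ⤳ x) (hd : δ x + 1 = δ ξ) {M : Type u}
    [AddCommGroup M] [Module (X.presheaf.stalk x) M] (u₁ u₂ : M)
    (hspan : Submodule.span (X.presheaf.stalk x) {u₁, u₂} = ⊤) (j : M →+ X.residueField ξ)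
    (hj : ∀ r m, j (r • m) = Cyc.specMap x ξ h r * j m) (hinj : Function.Injective j) (h₁ : j u₁ ≠ 0)
    (h₂ : j u₂ ≠ 0) :
    Module.length (X.presheaf.stalk x) (M ⧸ Submodule.span (X.presheaf.stalk x) {u₁}) ≠ ⊤ ∧
      Module.length (X.presheaf.stalk x) (M ⧸ Submodule.span (X.presheaf.stalk x) {u₂}) ≠ ⊤ ∧
      ((Module.length (X.presheaf.stalk x) (M ⧸ Submodule.span (X.presheaf.stalk x) {u₁})).toNat : ℤ) -
          (Module.length (X.presheaf.stalk x) (M ⧸ Submodule.span (X.presheaf.stalk x) {u₂})).toNat =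
        Cyc.ordAt x ξ h (j u₁) - Cyc.ordAt x ξ h (j u₂) := by
  obtain ⟨a, s, hs, has⟩ := specMap_surj h (j u₂ / j u₁)
  have has' : Cyc.specMap x ξ h s * j u₂ = Cyc.specMap x ξ h a * j u₁ := by
    rw [← has]; field_simp
  have ha : Cyc.specMap x ξ h a ≠ 0 := fun e => by
    rw [e, zero_mul, mul_eq_zero] at has'
    exact has'.elim hs h₂
  have e₁ := length_quotient_add (Cyc.specMap x ξ h) u₁ u₂ hspan j hj hinj h₁ a s hs has'
  have e₂ := length_quotient_add (Cyc.specMap x ξ h) u₂ u₁ (by rw [Set.pair_comm, hspan]) j hj hinj h₂ s a ha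
    has'.symm
  rw [sup_right_comm] at e₂
  have ns := length_ker_sup_ne_top hδ h hd s hs
  have na := length_ker_sup_ne_top hδ h hd a ha
  have n₁ := ne_top_of_le_ne_top ns (le_self_add.trans_eq e₁)
  have n₂ := ne_top_of_le_ne_top na (le_self_add.trans_eq e₂)
  have n₃ := ne_top_of_le_ne_top ns (le_add_self.trans_eq e₁)
  refine ⟨n₁, n₂, ?_⟩
  have f₁ := congrArg ENat.toNat e₁
  have f₂ := congrArg ENat.toNat e₂
  rw [ENat.toNat_add n₁ n₃] at f₁
  rw [ENat.toNat_add n₂ n₃] at f₂
  have o := ordAt_mul hδ h hd (div_ne_zero h₂ h₁) h₁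
  rw [div_mul_cancel₀ _ h₁] at o
  have o' := ordAt_mul hδ h hd (div_ne_zero h₂ h₁) hs
  rw [has, ordAt_formula hδ h hd a ha, ordAt_formula hδ h hd s hs] at o'
  omega

end Groth.Agent.CycLib28.K0
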