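import Groth.Agent.CycLib28.K0.PointGen
import Mathlib

/-!
# Rationally equivalent cycles have the same class
-/

set_option autoImplicit false
set_option linter.style.haveILetI false
set_option backward.isDefEq.respectTransparency.types false
universe u

open CategoryTheory CategoryTheory.Limits AlgebraicGeometry

namespace Groth.Agent.CycLib28.K0

variable {X : Scheme.{u}}

theorem cls_eq_of_ratEquivZero [IsLocallyNoetherian X] {δ : X → ℤ} (hδ : Cyc.IsDimFun X δ) {k : ℤ}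
    (α : AlgebraicCycle X ℤ) (hα : α ∈ Cyc.Zk X δ k) (h0 : Cyc.RatEquivZero δ k α) :
    Cyc.toK0CohQuot δ (k + 1) (k - 1) (Cyc.cycleSheafPos ⇑α) =
      Cyc.toK0CohQuot δ (k + 1) (k - 1) (Cyc.cycleSheafNeg ⇑α) := by
  obtain ⟨I, ξ, f, hd, hf, hloc, hsum⟩ := h0
  have hlf : LocallyFinite fun i => closure ({ξ i} : Set X) := fun x => by
    obtain ⟨U, hU, hxU, hfin⟩ := hloc x
    exact ⟨U, hU.mem_nhds hxU, hfin⟩
  have hgen : ∀ i, IsGenAt (specializes_rfl : ξ i ⤳ ξ i) (InterSheaf.pointSheaf (ξ i)) (ptGerm (ξ i) (ξ i)) :=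
    fun i => isGenAt_ptGerm _
  choose g₁ hg₁ e₁ using fun i =>
    exists_toKap _ _ (hgen i) (nontrivial_ptGerm hδ (ξ i)) (1 : X.residueField (ξ i)) one_ne_zero
  choose g₂ hg₂ e₂ using fun i =>
    exists_toKap _ _ (hgen i) (nontrivial_ptGerm hδ (ξ i)) (f i) (hf i)
  have h := cls_family hδ ξ hlf hd (fun i => InterSheaf.pointSheaf (ξ i)) (fun i => InterSheaf.pointSheaf (ξ i))
    (fun i => cohAt_pointSheaf (ξ i)) (fun i => cohAt_pointSheaf (ξ i)) g₁ g₂ hg₁ hg₂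
    (fun i x => Cyc.divFun δ (ξ i) (f i) x)
    (fun i x h hx => by
      refine ⟨ptGerm (ξ i) x, ptGerm (ξ i) x, isGenAt_ptGerm h, isGenAt_ptGerm h, ?_⟩
      rw [ptGerm_specializes (ξ i) h, e₁ i, e₂ i]
      have hdx : δ x + 1 = δ (ξ i) := by rw [hd i, hx]
      refine ⟨one_ne_zero, hf i, ?_⟩
      rw [Cyc.divFun, dif_pos ⟨h, hdx⟩, ordAt_one hδ h hdx, sub_zero])
    (fun i x _ h => divFun_eq_zero_of_not_specializes _ h)
    α hα (fun x _ => hsum x)
  rw [sub_self] at h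
  exact sub_eq_zero.1 h.symm

end Groth.Agent.CycLib28.K0
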